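import Groth.Agent.H7Lim.Approx.Consequences
import Groth.Agent.H7Lim.IdealDescent
import Mathlib.AlgebraicGeometry.Morphisms.Finite
import Mathlib.AlgebraicGeometry.Morphisms.Integral

/-!
# Integral morphisms are limits of finite morphisms of finite presentation
-/

set_option autoImplicit false
set_option backward.isDefEq.respectTransparency false
set_option backward.defeqAttrib.useBackward true
set_option linter.style.haveILetI false
set_option linter.unusedSectionVars false

universe u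

open AlgebraicGeometry CategoryTheory CategoryTheory.Limits Opposite TopologicalSpace
open AlgebraicGeometry.Scheme

namespace Groth.Agent.H7Lim.Approx

theorem isFinite_of_cover {V S : Scheme.{u}} (g : V ⟶ S) [IsAffineHom g] {ι : Type*}
    (U : ι → S.affineOpens) (hU : ⨆ i, (U i).1 = ⊤) (h : ∀ i, (g.app (U i).1).hom.Finite) :
    IsFinite g := by
  refine (HasAffineProperty.iff_of_iSup_eq_top (P := @IsFinite) U hU).2 fun i => ?_
  refine ⟨(U i).2.preimage g, ?_⟩
  rw [morphismRestrict_appTop]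
  have key : ∀ E, E = (U i).1 → (g.app E).hom.Finite := by rintro E rfl; exact h i
  rw [CommRingCat.hom_comp]
  exact RingHom.finite_respectsIso.1 (g.app _).hom
    (asIso (V.presheaf.map (eqToHom (image_morphismRestrict_preimage g (U i).1 ⊤)).op)).commRingCatIsoToRingEquiv
    (key _ (by rw [Scheme.Hom.image_top_eq_opensRange, Scheme.Opens.opensRange_ι]))

variable {X S : Scheme.{u}} {P : Scheme.{u}} (p : P ⟶ S) (a : X ⟶ P)

theorem exists_ftIdeal_of_affineOpen [CompactSpace P] [QuasiSeparatedSpace P] [IsAffineHom p]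
    [LocallyOfFiniteType p] [QuasiCompact a] [IsIntegralHom (a ≫ p)] (U : S.affineOpens) :
    ∃ J : FTIdeal a.ker, ∀ K : P.IdealSheafData, J.1 ≤ K →
      ((K.subschemeι ≫ p).app U.1).hom.Finite := by
  classical
  let U' : P.affineOpens := ⟨p ⁻¹ᵁ U.1, U.2.preimage p⟩
  have hft : (p.app U.1).hom.FiniteType := by
    rw [Scheme.Hom.app_eq_appLE]
    exact HasRingHomProperty.appLE (P := @LocallyOfFiniteType) p inferInstance U U' _
  letI := (p.app U.1).hom.toAlgebra
  obtain ⟨G, hG⟩ := (show Algebra.FiniteType Γ(S, U.1) Γ(P, p ⁻¹ᵁ U.1) from hft).out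
  have hint : ∀ x, ∃ q : Polynomial Γ(S, U.1), q.Monic ∧
      q.eval₂ (p.app U.1).hom x ∈ a.ker.ideal U' := by
    intro x
    obtain ⟨q, hq, hqx⟩ := IsIntegralHom.isIntegral_app (a ≫ p) U.1 U.2 (a.app (p ⁻¹ᵁ U.1) x)
    refine ⟨q, hq, ?_⟩
    rw [Scheme.Hom.ker_apply, RingHom.mem_ker, Polynomial.hom_eval₂]
    exact hqx
  choose q hq hq' using hint
  obtain ⟨J, hJle, hJfg, hJs⟩ := exists_finiteType_le a.ker U'
    (G.image fun x => (q x).eval₂ (p.app U.1).hom x) (fun y hy => by
      simp only [Finset.coe_image, Set.mem_image] at hy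
      obtain ⟨x, -, rfl⟩ := hy
      exact hq' x)
  refine ⟨⟨J, hJle, hJfg⟩, fun K hK => ?_⟩
  have hker : K.ideal U' = RingHom.ker (K.subschemeι.app (p ⁻¹ᵁ U.1)).hom := by
    conv_lhs => rw [← K.ker_subschemeι]
    rw [Scheme.Hom.ker_apply]
  have hsurj : Function.Surjective (K.subschemeι.app (p ⁻¹ᵁ U.1)) :=
    K.subschemeι.app_surjective _ U'.2
  show ((K.subschemeι.app (p ⁻¹ᵁ U.1)).hom.comp (p.app U.1).hom).Finite
  refine RingHom.IsIntegral.to_finite (fun y => ?_) (hft.comp_surjective hsurj)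
  obtain ⟨z, rfl⟩ := hsurj y
  have hz : z ∈ Algebra.adjoin Γ(S, U.1) (G : Set Γ(P, p ⁻¹ᵁ U.1)) := hG.ge trivial
  induction hz using Algebra.adjoin_induction with
  | mem x hx =>
    refine ⟨q x, hq x, ?_⟩
    rw [← Polynomial.hom_eval₂]
    refine RingHom.mem_ker.1 (hker.le (hK U' (hJs ?_)))
    simp only [Finset.coe_image, Set.mem_image]
    exact ⟨x, hx, rfl⟩
  | algebraMap r =>
    exact RingHom.isIntegralElem_map _
  | add x y _ _ hx hy => rw [map_add]; exact hx.add _ hy
  | mul x y _ _ hx hy => rw [map_mul]; exact hx.mul _ hy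

/-- Some finite type ideal subsheaf of the kernel cuts out a scheme finite over the base. -/
theorem exists_ftIdeal_isFinite [CompactSpace S] [CompactSpace P] [QuasiSeparatedSpace P]
    [IsAffineHom p] [LocallyOfFiniteType p] [QuasiCompact a] [IsIntegralHom (a ≫ p)] :
    ∃ J : FTIdeal a.ker, ∀ K : P.IdealSheafData, J.1 ≤ K → IsFinite (K.subschemeι ≫ p) := by
  obtain ⟨T, hT⟩ := isCompact_univ.elim_finite_subcover
    (fun W : S.affineOpens ↦ ((W : S.Opens) : Set S)) (fun W ↦ W.1.2) (fun x _ ↦ by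
      simpa using (iSup_affineOpens_eq_top S).ge (Set.mem_univ x))
  choose J hJ using exists_ftIdeal_of_affineOpen p a
  obtain ⟨M, hM⟩ := Finite.exists_le (fun W : T => J W.1)
  refine ⟨M, fun K hK => isFinite_of_cover _ (fun W : T => W.1) (top_le_iff.1 fun x _ => ?_)
    fun W => hJ W.1 K (le_trans (show (J W.1).1 ≤ M.1 from hM W) hK)⟩
  obtain ⟨W, hW, hx⟩ := Set.mem_iUnion₂.1 (hT (Set.mem_univ x))
  exact Opens.mem_iSup.2 ⟨⟨W, hW⟩, hx⟩

variable {I : Type u} [Preorder I] {D : Iᵒᵖ ⥤ Over S} {f : X ⟶ S}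
  (π : ∀ i, Over.mk f ⟶ D.obj i)

/-- A stage together with a closed subscheme of it, of finite presentation, finite over the base and
containing the image of `X`. -/
structure FinIdx : Type u where
  /-- The stage. -/
  i : I
  /-- The closed subscheme. -/
  K : FTIdeal (π (op i)).left.ker
  finite : IsFinite (K.1.subschemeι ≫ (D.obj (op i)).hom)

namespace FinIdx

variable {π}

/-- The finite scheme over the base. -/
noncomputable abbrev obj (v : FinIdx π) : Over S :=
  Over.mk (v.K.1.subschemeι ≫ (D.obj (op v.i)).hom)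

/-- Its inclusion in the stage. -/
noncomputable abbrev incl (v : FinIdx π) : v.obj ⟶ D.obj (op v.i) := Over.homMk v.K.1.subschemeι rfl

instance (v : FinIdx π) : Mono v.incl :=
  ⟨fun g g' h => Over.OverMorphism.ext ((cancel_mono v.K.1.subschemeι).1 congr(($h).left))⟩

instance : Preorder (FinIdx π) where
  le v w := ∃ (h : v.i ≤ w.i) (g : w.obj ⟶ v.obj), g ≫ v.incl = w.incl ≫ D.map (homOfLE h).op
  le_refl v := ⟨le_rfl, 𝟙 _, by
    rw [Subsingleton.elim (homOfLE _).op (𝟙 _), D.map_id, Category.id_comp, Category.comp_id]⟩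
  le_trans u v w := fun ⟨h, g, hg⟩ ⟨h', g', hg'⟩ => ⟨h.trans h', g' ≫ g, by
    rw [Category.assoc, hg, reassoc_of% hg', ← D.map_comp, ← op_comp, homOfLE_comp]⟩

theorem le_i {v w : FinIdx π} (h : v ≤ w) : v.i ≤ w.i := h.1

theorem exists_hom {v w : FinIdx π} (h : v ≤ w) :
    ∃ g : w.obj ⟶ v.obj, g ≫ v.incl = w.incl ≫ D.map (homOfLE (le_i h)).op := h.2

/-- The transition morphism. -/
noncomputable def trans {v w : FinIdx π} (h : v ≤ w) : w.obj ⟶ v.obj := (exists_hom h).choose

theorem trans_incl {v w : FinIdx π} (h : v ≤ w) :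
    trans h ≫ v.incl = w.incl ≫ D.map (homOfLE (le_i h)).op := (exists_hom h).choose_spec

end FinIdx

/-- The system of finite schemes. -/
noncomputable def finSystem : (FinIdx π)ᵒᵖ ⥤ Over S where
  obj v := v.unop.obj
  map a := FinIdx.trans a.unop.le
  map_id v := by
    rw [← cancel_mono v.unop.incl, FinIdx.trans_incl, Subsingleton.elim (homOfLE _).op (𝟙 _),
      D.map_id, Category.id_comp, Category.comp_id]
  map_comp {u v w} a b := by
    rw [← cancel_mono w.unop.incl, FinIdx.trans_incl, Category.assoc, FinIdx.trans_incl,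
      ← Category.assoc (FinIdx.trans _), FinIdx.trans_incl, Category.assoc, ← D.map_comp, ← op_comp,
      homOfLE_comp]

theorem exists_finIdx [CompactSpace S] [IsIntegralHom f]
    [∀ i, IsAffineHom (D.obj i).hom] [∀ i, LocallyOfFiniteType (D.obj i).hom]
    [∀ i, CompactSpace (D.obj i).left] [∀ i, QuasiSeparatedSpace (D.obj i).left] (i : I) :
    ∃ K₀ : FTIdeal (π (op i)).left.ker, ∀ K : (D.obj (op i)).left.IdealSheafData, K₀.1 ≤ K →
      IsFinite (K.subschemeι ≫ (D.obj (op i)).hom) := by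
  have w : (π (op i)).left ≫ (D.obj (op i)).hom = f := Over.w (π (op i))
  haveI : IsIntegralHom ((π (op i)).left ≫ (D.obj (op i)).hom) := by rw [w]; infer_instance
  haveI : IsAffineHom (π (op i)).left :=
    MorphismProperty.of_postcomp @IsAffineHom (π (op i)).left (D.obj (op i)).hom
      (show IsSeparated (D.obj (op i)).hom from inferInstance) inferInstance
  exact exists_ftIdeal_isFinite _ _

/-- **Integral morphisms** to qcqs schemes are limits of finite morphisms of finite presentation. -/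
theorem exists_finite_fp_system {X S : Scheme.{u}} (f : X ⟶ S) [IsIntegralHom f]
    [CompactSpace S] [QuasiSeparatedSpace S] :
    ∃ (I : Type u) (_ : Preorder I) (_ : IsDirected I (fun a b => a ≤ b)) (_ : Nonempty I)
      (D : Iᵒᵖ ⥤ Over S) (c : Limits.Cone D) (_ : Limits.IsLimit c),
      (∀ i, IsFinite (D.obj i).hom ∧ LocallyOfFinitePresentation (D.obj i).hom) ∧
      Nonempty (c.pt ≅ Over.mk f) := by
  classical
  haveI : CompactSpace X := QuasiCompact.compactSpace_of_compactSpace f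
  haveI : QuasiSeparatedSpace X := quasiSeparatedSpace_of_quasiSeparated f
  obtain ⟨I₀, _, _, _, D₀, c₀, hc₀, hfin, haff, ⟨e⟩⟩ := exists_fp_system f
  obtain ⟨hc₀'⟩ := nonempty_isLimit_forget hc₀
  haveI : ∀ (i j : I₀ᵒᵖ) (a : i ⟶ j), IsAffineHom ((D₀ ⋙ Over.forget S).map a) := haff
  haveI : ∀ i, CompactSpace ((D₀ ⋙ Over.forget S).obj i) := fun i ↦ (hfin i).2.2.2.1
  haveI : ∀ i, QuasiSeparatedSpace ((D₀ ⋙ Over.forget S).obj i) := fun i ↦ (hfin i).2.2.2.2
  let i₀ : I₀ᵒᵖ := Classical.arbitrary _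
  haveI : IsAffineHom (((Over.forget S).mapCone c₀).π.app i₀ ≫ (D₀.obj i₀).hom) := by
    show IsAffineHom ((c₀.π.app i₀).left ≫ (D₀.obj i₀).hom)
    haveI : IsIso e.inv.left := inferInstanceAs (IsIso ((Over.forget S).map e.inv))
    rw [show (c₀.π.app i₀).left ≫ (D₀.obj i₀).hom = c₀.pt.hom from Over.w (c₀.π.app i₀),
      ← MorphismProperty.cancel_left_of_respectsIso @IsAffineHom e.inv.left, Over.w e.inv]
    show IsAffineHom f
    infer_instance
  obtain ⟨i₁, hi₁⟩ := exists_isAffineHom_structureMap (c := (Over.forget S).mapCone c₀) hc₀'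
    (fun i ↦ (D₀.obj i).hom) (fun φ ↦ Over.w (D₀.map φ)) i₀
  let I := {i : I₀ // i₁.unop ≤ i}
  haveI : Nonempty I := ⟨⟨i₁.unop, le_rfl⟩⟩
  haveI : IsDirected I (fun a b => a ≤ b) := ⟨fun a b ↦ by
    obtain ⟨k, hk₁, hk₂⟩ := directed_of (fun a b : I₀ => a ≤ b) a.1 b.1
    exact ⟨⟨k, a.2.trans hk₁⟩, hk₁, hk₂⟩⟩
  have hmono : Monotone (Subtype.val : I → I₀) := fun _ _ h ↦ h
  haveI := initial_op_of_cofinal _ hmono fun j ↦ by
    obtain ⟨k, hk₁, hk₂⟩ := directed_of (fun a b : I₀ => a ≤ b) i₁.unop j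
    exact ⟨⟨k, hk₁⟩, hk₂⟩
  let D := hmono.functor.op ⋙ D₀
  let c := c₀.whisker hmono.functor.op
  have hc : IsLimit c := (Functor.Initial.isLimitWhiskerEquiv hmono.functor.op c₀).symm hc₀
  haveI : ∀ i, IsAffineHom (D.obj i).hom := fun i ↦ hi₁ (op i.unop.1) (homOfLE i.unop.2).op
  haveI : ∀ i, LocallyOfFinitePresentation (D.obj i).hom := fun i ↦ (hfin (op i.unop.1)).1
  haveI : ∀ i, CompactSpace (D.obj i).left := fun i ↦ (hfin (op i.unop.1)).2.2.2.1
  haveI : ∀ i, QuasiSeparatedSpace (D.obj i).left := fun i ↦ (hfin (op i.unop.1)).2.2.2.2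
  let π : ∀ i, Over.mk f ⟶ D.obj i := fun i ↦ e.inv ≫ c.π.app i
  have hπ : ∀ {i j : Iᵒᵖ} (u : i ⟶ j), π i ≫ D.map u = π j := fun u ↦ by
    simp only [π, Category.assoc]; exact congrArg (e.inv ≫ ·) (c.w u)
  haveI : ∀ i, QuasiCompact (π i).left := fun i ↦ by
    haveI : QuasiCompact ((π i).left ≫ (D.obj i).hom) := by
      rw [Over.w (π i)]; show QuasiCompact f; infer_instance
    exact QuasiCompact.of_comp (π i).left (D.obj i).hom
  choose K₀ hK₀ using exists_finIdx π
  have hexists : ∀ i, ∃ v : FinIdx π, v.i = i := fun i ↦ ⟨⟨i, K₀ i, hK₀ i _ le_rfl⟩, rfl⟩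
  -- directedness
  haveI : IsDirected (FinIdx π) (fun a b => a ≤ b) := ⟨fun v w ↦ by
    obtain ⟨k, hvk, hwk⟩ := directed_of (fun a b : I => a ≤ b) v.i w.i
    have pull : ∀ (v : FinIdx π) (h : v.i ≤ k), ∃ L : FTIdeal (π (op k)).left.ker,
        L.1 = v.K.1.comap (D.map (homOfLE h).op).left := by
      intro v h
      let φ : (D.obj (op k)).left ⟶ (D.obj (op v.i)).left := (D.map (homOfLE h).op).left
      haveI : LocallyOfFinitePresentation v.K.1.subschemeι :=
        locallyOfFinitePresentation_of_ker_fg _ (by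
          simpa [Scheme.IdealSheafData.ker_subschemeι] using v.K.2.2)
      haveI : LocallyOfFinitePresentation (pullback.fst φ v.K.1.subschemeι) :=
        MorphismProperty.pullback_fst _ _ inferInstance
      have hcomap : (pullback.fst φ v.K.1.subschemeι).ker = v.K.1.comap φ := by
        rw [Scheme.IdealSheafData.ker_fst_of_isClosedImmersion, Scheme.IdealSheafData.ker_subschemeι]
      refine ⟨⟨v.K.1.comap φ, ?_, fun A ↦ ?_⟩, rfl⟩
      · rw [← Scheme.IdealSheafData.le_map_iff_comap_le, Scheme.IdealSheafData.map_ker]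
        have := congr(($(hπ (homOfLE h).op)).left)
        simp only [Over.comp_left] at this
        rw [this]
        exact v.K.2.1
      · rw [← hcomap]
        exact ker_fg_of_locallyOfFinitePresentation _ A
    obtain ⟨Lv, hLv⟩ := pull v hvk
    obtain ⟨Lw, hLw⟩ := pull w hwk
    obtain ⟨K₁, h₁, h₂⟩ := directed_of (fun a b : FTIdeal (π (op k)).left.ker => a ≤ b) Lv Lw
    obtain ⟨K, h₃, h₀⟩ := directed_of (fun a b : FTIdeal (π (op k)).left.ker => a ≤ b) K₁ (K₀ k)
    let z : FinIdx π := ⟨k, K, hK₀ k _ h₀⟩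
    have le : ∀ (v : FinIdx π) (h : v.i ≤ k) (L : FTIdeal (π (op k)).left.ker),
        L.1 = v.K.1.comap (D.map (homOfLE h).op).left → L.1 ≤ K.1 → v ≤ z := by
      intro v h L hL hLK
      have hker : v.K.1.subschemeι.ker ≤ (K.1.subschemeι ≫ (D.map (homOfLE h).op).left).ker := by
        rw [Scheme.IdealSheafData.ker_subschemeι, ← Scheme.IdealSheafData.map_ker,
          Scheme.IdealSheafData.ker_subschemeι, Scheme.IdealSheafData.le_map_iff_comap_le, ← hL]
        exact hLK
      refine ⟨h, Over.homMk (IsClosedImmersion.lift v.K.1.subschemeι _ hker) ?_,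
        Over.OverMorphism.ext (IsClosedImmersion.lift_fac _ _ _)⟩
      show _ ≫ v.K.1.subschemeι ≫ (D.obj (op v.i)).hom = K.1.subschemeι ≫ (D.obj (op k)).hom
      rw [IsClosedImmersion.lift_fac_assoc, Category.assoc, Over.w]
    exact ⟨z, le v hvk Lv hLv (h₁.trans h₃), le w hwk Lw hLw (h₂.trans h₃)⟩⟩
  haveI : Nonempty (FinIdx π) := ⟨(hexists (Classical.arbitrary I)).choose⟩
  have hidx : Monotone (fun v : FinIdx π ↦ v.i) := fun _ _ h ↦ FinIdx.le_i h
  haveI := initial_op_of_cofinal _ hidx fun i ↦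
    ⟨(hexists i).choose, (hexists i).choose_spec.ge⟩
  have hc' : IsLimit (c.whisker hidx.functor.op) :=
    (Functor.Initial.isLimitWhiskerEquiv hidx.functor.op c).symm hc
  -- the cone
  let cx : ∀ v : FinIdx π, Over.mk f ⟶ v.obj := fun v ↦
    Over.homMk (IsClosedImmersion.lift v.K.1.subschemeι (π (op v.i)).left (by
        rw [Scheme.IdealSheafData.ker_subschemeι]; exact v.K.2.1))
      (by
        show _ ≫ v.K.1.subschemeι ≫ (D.obj (op v.i)).hom = f
        rw [IsClosedImmersion.lift_fac_assoc]; exact Over.w (π (op v.i)))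
  have hcx : ∀ v, cx v ≫ v.incl = π (op v.i) := fun v ↦
    Over.OverMorphism.ext (IsClosedImmersion.lift_fac _ _ _)
  let cc : Cone (finSystem π) :=
    { pt := Over.mk f
      π :=
        { app := fun v ↦ cx v.unop
          naturality := fun v w a ↦ by
            rw [← cancel_mono w.unop.incl]
            show (𝟙 _ ≫ cx w.unop) ≫ w.unop.incl = (cx v.unop ≫ FinIdx.trans a.unop.le) ≫ w.unop.incl
            rw [Category.id_comp, hcx, Category.assoc, FinIdx.trans_incl, reassoc_of% hcx, hπ] } }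
  let push : Cone (finSystem π) → Cone (hidx.functor.op ⋙ D) := fun s ↦
    { pt := s.pt
      π :=
        { app := fun v ↦ s.π.app v ≫ v.unop.incl
          naturality := fun v w a ↦ by
            show 𝟙 _ ≫ s.π.app w ≫ w.unop.incl = (s.π.app v ≫ v.unop.incl) ≫ D.map _
            rw [Category.id_comp, Category.assoc, ← s.w a]
            show (s.π.app v ≫ FinIdx.trans a.unop.le) ≫ w.unop.incl = _
            rw [Category.assoc, FinIdx.trans_incl]
            rfl } }
  have hlim : IsLimit cc :=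
    { lift := fun s ↦ hc'.lift (push s) ≫ e.hom
      fac := fun s v ↦ by
        rw [← cancel_mono v.unop.incl]
        show ((hc'.lift (push s) ≫ e.hom) ≫ cx v.unop) ≫ v.unop.incl = _
        rw [Category.assoc, hcx, Category.assoc, Iso.hom_inv_id_assoc]
        exact hc'.fac (push s) v
      uniq := fun s m hm ↦ by
        rw [← cancel_mono e.inv, Category.assoc, Iso.hom_inv_id, Category.comp_id]
        refine hc'.uniq (push s) _ fun v ↦ ?_
        show (m ≫ e.inv) ≫ c.π.app (op v.unop.i) = s.π.app v ≫ v.unop.incl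
        rw [← hm v, Category.assoc]
        show m ≫ π (op v.unop.i) = (m ≫ cx v.unop) ≫ v.unop.incl
        rw [Category.assoc, hcx] }
  refine ⟨FinIdx π, inferInstance, inferInstance, inferInstance, finSystem π, cc, hlim,
    fun v ↦ ⟨v.unop.finite, ?_⟩, ⟨Iso.refl _⟩⟩
  haveI : LocallyOfFinitePresentation v.unop.K.1.subschemeι :=
    locallyOfFinitePresentation_of_ker_fg _ (by
      simpa [Scheme.IdealSheafData.ker_subschemeι] using v.unop.K.2.2)
  exact inferInstanceAs (LocallyOfFinitePresentation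
    (v.unop.K.1.subschemeι ≫ (D.obj (op v.unop.i)).hom))

end Groth.Agent.H7Lim.Approx
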