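import Groth.Agent.H7Lim.Approx.SubLimit
import Groth.Agent.H7Lim.Topology
import Groth.Agent.H7Lim.StructureMap
import Groth.Agent.H7Lim.GlueOpen
import Mathlib.AlgebraicGeometry.AffineSpace
import Mathlib.AlgebraicGeometry.Morphisms.FinitePresentation
import Mathlib.AlgebraicGeometry.Noetherian

/-!
# Absolute approximation: qcqs schemes are affine over schemes of finite type over `ℤ`
-/

set_option autoImplicit false
set_option backward.isDefEq.respectTransparency false
set_option backward.defeqAttrib.useBackward true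
set_option linter.style.haveILetI false
set_option linter.unusedSectionVars false

universe u

open AlgebraicGeometry CategoryTheory CategoryTheory.Limits Opposite TopologicalSpace
open AlgebraicGeometry.Scheme

namespace Groth.Agent.H7Lim.Approx

/-- The structure map to `Spec ℤ`. -/
noncomputable abbrev toZ (X : Scheme.{u}) : X ⟶ Spec (CommRingCat.of (ULift.{u} ℤ)) :=
  IsTerminal.from specULiftZIsTerminal X

theorem toZ_eq {X : Scheme.{u}} (g : X ⟶ Spec (CommRingCat.of (ULift.{u} ℤ))) : g = toZ X :=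
  specULiftZIsTerminal.hom_ext _ _

@[simp] theorem comp_toZ {X Y : Scheme.{u}} (g : X ⟶ Y) : g ≫ toZ Y = toZ X :=
  specULiftZIsTerminal.hom_ext _ _

/-- A finitely generated ring gives a finitely presented scheme over `ℤ`. -/
theorem lfp_toZ_of_closure {R : Type u} [CommRing R] (s : Finset R) :
    LocallyOfFinitePresentation (toZ (Spec (CommRingCat.of (Subring.closure (s : Set R))))) := by
  classical
  let A := Subring.closure (s : Set R)
  let φ : ULift.{u} ℤ →+* A := (Int.castRingHom A).comp ULift.ringEquiv.toRingHom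
  rw [← toZ_eq (Spec.map (CommRingCat.ofHom φ)), LocallyOfFinitePresentation.SpecMap_iff]
  letI := φ.toAlgebra
  show Algebra.FinitePresentation (ULift.{u} ℤ) A
  haveI : IsNoetherianRing (ULift.{u} ℤ) := isNoetherianRing_of_ringEquiv ℤ ULift.ringEquiv.symm
  haveI : Algebra.FiniteType (ULift.{u} ℤ) A := by
    let t : Finset A := s.attach.image fun x ↦ ⟨x.1, Subring.subset_closure x.2⟩
    refine ⟨t, eq_top_iff.mpr fun x _ ↦ ?_⟩
    have hle : Subring.closure (s : Set R) ≤
        (Algebra.adjoin (ULift.{u} ℤ) (t : Set A)).toSubring.map A.subtype := by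
      rw [Subring.closure_le]
      intro y hy
      exact ⟨⟨y, Subring.subset_closure hy⟩,
        Algebra.subset_adjoin (Finset.mem_image.mpr ⟨⟨y, hy⟩, Finset.mem_attach _ _, rfl⟩), rfl⟩
    obtain ⟨z, hz, hzx⟩ := hle x.2
    rwa [← Subtype.ext hzx]
  exact Algebra.FinitePresentation.of_finiteType.mp inferInstance

variable {X₁ Y V : Scheme.{u}} (f : X₁ ⟶ Y) [IsAffineHom f] [CompactSpace Y] [QuasiSeparatedSpace Y]

/-- The system of finite type affine schemes, as schemes. -/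
noncomputable abbrev sys : (FGSub f)ᵒᵖ ⥤ Scheme.{u} := system f ⋙ Over.forget Y

/-- `X₁` over it. -/
noncomputable abbrev sysCone : Cone (sys f) := (Over.forget Y).mapCone (systemCone f)

theorem nonempty_isLimit_sysCone : Nonempty (IsLimit (sysCone f)) :=
  haveI : IsConnected (FGSub f)ᵒᵖ := IsCofiltered.isConnected _
  ⟨isLimitOfPreserves (Over.forget Y) (isLimitSystemCone f)⟩

instance (J : FGSub f) : CompactSpace J.spec := QuasiCompact.compactSpace_of_compactSpace J.proj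

instance (J : FGSub f) : QuasiSeparatedSpace J.spec :=
  quasiSeparatedSpace_of_quasiSeparated J.proj

variable {R : CommRingCat.{u}} (j₁ : V ⟶ X₁) (j₂ : V ⟶ Spec R) [IsOpenImmersion j₁]
  [IsOpenImmersion j₂] [CompactSpace V]

/-- A stage where the open subscheme descends, together with a map to a finitely generated affine
scheme cutting out `V` in `Spec R`. -/
theorem exists_stage : ∃ (s : Finset R) (J : FGSub f) (O : J.spec.Opens)
    (hO : J.toSpec ⁻¹ᵁ O = j₁.opensRange) (W : (Spec (CommRingCat.of (Subring.closure (s : Set R)))).Opens)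
    (hW : (Spec.map (CommRingCat.ofHom (Subring.closure (s : Set R)).subtype)) ⁻¹ᵁ W = j₂.opensRange)
    (hWs : W = ⨆ h : {h : (Subring.closure (s : Set R)) // h.1 ∈ s},
      PrimeSpectrum.basicOpen h.1)
    (b : O.toScheme ⟶ W.toScheme), IsAffineHom b ∧ IsCompact (O : Set J.spec) ∧
      ∀ (v : V ⟶ O.toScheme), v ≫ O.ι = j₁ ≫ J.toSpec → v ≫ b ≫ W.ι =
        j₂ ≫ Spec.map (CommRingCat.ofHom (Subring.closure (s : Set R)).subtype) := by
  classical
  haveI : QuasiSeparatedSpace X₁ := quasiSeparatedSpace_of_quasiSeparated f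
  -- a finitely generated model of the open of `Spec R`
  obtain ⟨S, hS, hSeq⟩ := (isCompact_and_isOpen_iff_finite_and_eq_biUnion_basicOpen
    (X := Spec R) (U := (j₂.opensRange : Set (Spec R)))).mp
    ⟨isCompact_range j₂.continuous, j₂.opensRange.2⟩
  let s : Finset R := hS.toFinset.image fun g ↦ (Scheme.ΓSpecIso R).hom g
  let A₀ := Subring.closure (s : Set R)
  let ψ : Spec R ⟶ Spec (CommRingCat.of A₀) := Spec.map (CommRingCat.ofHom A₀.subtype)
  let W : (Spec (CommRingCat.of A₀)).Opens :=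
    ⨆ h : {h : A₀ // h.1 ∈ s}, PrimeSpectrum.basicOpen h.1
  have hψW : ψ ⁻¹ᵁ W = j₂.opensRange := by
    apply Opens.ext
    rw [hSeq]
    ext x
    simp only [W, Scheme.Hom.preimage_iSup, Opens.coe_iSup, Set.mem_iUnion, Set.mem_iUnion₂]
    refine ⟨fun ⟨⟨h, hh⟩, hx⟩ ↦ ?_, fun ⟨g, hg, hx⟩ ↦ ?_⟩
    · obtain ⟨g, hg, hgh⟩ := Finset.mem_image.mp hh
      refine ⟨g, hS.mem_toFinset.mp hg, ?_⟩
      rw [basicOpen_eq_of_affine']
      show (Scheme.ΓSpecIso R).hom g ∉ x.asIdeal
      rw [hgh]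
      exact hx
    · refine ⟨⟨⟨(Scheme.ΓSpecIso R).hom g, Subring.subset_closure
        (Finset.mem_image_of_mem _ (hS.mem_toFinset.mpr hg))⟩,
        Finset.mem_image_of_mem _ (hS.mem_toFinset.mpr hg)⟩, ?_⟩
      rw [basicOpen_eq_of_affine'] at hx
      exact hx
  -- descend the open of `X₁`
  obtain ⟨hc⟩ := nonempty_isLimit_sysCone f
  haveI : ∀ i, CompactSpace ((sys f).obj i) := fun i ↦ inferInstanceAs (CompactSpace i.unop.spec)
  haveI : ∀ i, QuasiSeparatedSpace ((sys f).obj i) := fun i ↦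
    inferInstanceAs (QuasiSeparatedSpace i.unop.spec)
  haveI : ∀ (i j : (FGSub f)ᵒᵖ) (a : i ⟶ j), IsAffineHom ((sys f).map a) := fun i j a ↦
    inferInstanceAs (IsAffineHom ((system f).map a).left)
  obtain ⟨J₀, -, O₀', hO₀', hO₀'c, hO₀eq⟩ := exists_isCompact_isOpen_preimage_eq hc
    (op (Classical.arbitrary (FGSub f))) (U := (j₁.opensRange : Set X₁)) j₁.opensRange.2
    (isCompact_range j₁.continuous)
  let O₀ : ((sys f).obj J₀).Opens := ⟨O₀', hO₀'⟩
  have hO₀ : (sysCone f).π.app J₀ ⁻¹ᵁ O₀ = j₁.opensRange := Opens.ext hO₀eq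
  let D' := opensDiagram (sys f) J₀ O₀
  let c' := opensCone (sys f) (sysCone f) J₀ O₀
  let hc' : IsLimit c' := isLimitOpensCone (sys f) (sysCone f) hc J₀ O₀
  haveI : ∀ j, CompactSpace (D'.obj j) := fun j ↦
    isCompact_iff_compactSpace.mp (QuasiCompact.isCompact_preimage _ O₀.2 hO₀'c)
  haveI : ∀ j, QuasiSeparatedSpace (D'.obj j) := fun j ↦
    (isQuasiSeparated_iff_quasiSeparatedSpace _ ((sys f).map _ ⁻¹ᵁ _).2).mp (.of_quasiSeparatedSpace _)
  let e : c'.pt ≅ V := IsOpenImmersion.isoOfRangeEq ((sysCone f).π.app J₀ ⁻¹ᵁ O₀).ι j₁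
    ((Scheme.Opens.range_ι (X := X₁) _).trans hO₀eq)
  have he : e.hom ≫ j₁ = ((sysCone f).π.app J₀ ⁻¹ᵁ O₀).ι := IsOpenImmersion.isoOfRangeEq_hom_fac _ _ _
  -- the map to `Spec A₀`
  haveI := lfp_toZ_of_closure (R := R) s
  let t : D' ⟶ (Functor.const _).obj (Spec (CommRingCat.of (ULift.{u} ℤ))) :=
    { app := fun j ↦ toZ _
      naturality := fun _ _ _ ↦ specULiftZIsTerminal.hom_ext _ _ }
  obtain ⟨k, g, hg, -⟩ := Scheme.exists_π_app_comp_eq_of_locallyOfFinitePresentation D' t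
    (toZ (Spec (CommRingCat.of A₀))) c' hc' (e.hom ≫ j₂ ≫ ψ)
    (by ext j; exact specULiftZIsTerminal.hom_ext _ _)
  -- it lands in `W` at a later stage
  have hgW : c'.π.app k ⁻¹ᵁ (⊤ : (D'.obj k).Opens) ≤ c'.π.app k ⁻¹ᵁ (g ⁻¹ᵁ W) := by
    rw [← Scheme.Hom.comp_preimage _ g, hg, Scheme.Hom.comp_preimage, Scheme.Hom.comp_preimage,
      hψW, Scheme.Hom.preimage_opensRange]
    simp
  obtain ⟨l, φ, hl⟩ := exists_map_preimage_le_map_preimage D' c' hc' isCompact_univ hgW
  let g₁ : D'.obj l ⟶ W.toScheme := IsOpenImmersion.lift W.ι (D'.map φ ≫ g) (by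
    rw [Scheme.Opens.range_ι]
    rintro _ ⟨x, rfl⟩
    exact hl (show x ∈ D'.map φ ⁻¹ᵁ ⊤ from trivial))
  have hg₁ : g₁ ≫ W.ι = D'.map φ ≫ g := IsOpenImmersion.lift_fac _ _ _
  -- affine at a later stage
  haveI : CompactSpace W.toScheme := isCompact_iff_compactSpace.mp (by
    simp only [W, Opens.coe_iSup]
    haveI : Finite {h : A₀ // h.1 ∈ s} := Finite.of_injective
      (fun h ↦ (⟨h.1.1, h.2⟩ : s)) fun a b e ↦ Subtype.ext (Subtype.ext (congrArg Subtype.val e :))
    exact isCompact_iUnion fun h ↦ PrimeSpectrum.isCompact_basicOpen _)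
  haveI : QuasiSeparatedSpace W.toScheme :=
    (isQuasiSeparated_iff_quasiSeparatedSpace _ W.2).mp (.of_quasiSeparatedSpace _)
  let D'' := Over.forget l ⋙ D'
  let c'' : Cone D'' := c'.whisker (Over.forget l)
  have hc'' : IsLimit c'' := (Functor.Initial.isLimitWhiskerEquiv (Over.forget l) c').symm hc'
  haveI : ∀ j, CompactSpace (D''.obj j) := fun j ↦ inferInstanceAs (CompactSpace (D'.obj j.left))
  haveI : ∀ j, QuasiSeparatedSpace (D''.obj j) := fun j ↦
    inferInstanceAs (QuasiSeparatedSpace (D'.obj j.left))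
  haveI : ∀ (i j : Over l) (a : i ⟶ j), IsAffineHom (D''.map a) := fun i j a ↦
    inferInstanceAs (IsAffineHom ((opensDiagram (sys f) J₀ O₀).map a.left))
  have hpt : c'.π.app l ≫ g₁ ≫ W.ι = e.hom ≫ j₂ ≫ ψ := by
    rw [hg₁, ← Category.assoc, c'.w, hg]
  haveI : IsAffineHom (c''.π.app (Over.mk (𝟙 l)) ≫ (D'.map (Over.mk (𝟙 l)).hom ≫ g₁)) := by
    have h1 : c'.π.app l ≫ g₁ = e.hom ≫ IsOpenImmersion.lift W.ι (j₂ ≫ ψ)
        (by rw [Scheme.Opens.range_ι]; rintro _ ⟨x, rfl⟩
            exact hψW.ge (show j₂ x ∈ j₂.opensRange from ⟨x, rfl⟩)) := by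
      rw [← cancel_mono W.ι, Category.assoc, Category.assoc, hpt, IsOpenImmersion.lift_fac]
    show IsAffineHom (c'.π.app l ≫ D'.map (𝟙 l) ≫ g₁)
    rw [D'.map_id, Category.id_comp, h1]
    have hpb : IsPullback (IsOpenImmersion.lift W.ι (j₂ ≫ ψ)
        (by rw [Scheme.Opens.range_ι]; rintro _ ⟨x, rfl⟩
            exact hψW.ge (show j₂ x ∈ j₂.opensRange from ⟨x, rfl⟩))) j₂ W.ι ψ :=
      IsOpenImmersion.isPullback _ _ _ _ (IsOpenImmersion.lift_fac _ _ _).symm
        (by rw [Scheme.Opens.opensRange_ι]; exact hψW)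
    haveI := MorphismProperty.of_isPullback (P := @IsAffineHom) hpb.flip inferInstance
    infer_instance
  obtain ⟨m, hm⟩ := exists_isAffineHom_structureMap (c := c'') hc''
    (fun j ↦ D'.map j.hom ≫ g₁) (fun {i j} a ↦ by
      show D'.map a.left ≫ _ = _
      rw [← Category.assoc, ← D'.map_comp, Over.w a]) (Over.mk (𝟙 l))
  haveI : IsAffineHom (D'.map m.hom ≫ g₁) := hm m (𝟙 m)
  -- conclude
  refine ⟨s, m.left.left.unop, (sys f).map m.left.hom ⁻¹ᵁ O₀, ?_, W, hψW, rfl,
    D'.map m.hom ≫ g₁, inferInstance, QuasiCompact.isCompact_preimage _ O₀.2 hO₀'c, fun v hv ↦ ?_⟩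
  · rw [← hO₀, ← (sysCone f).w m.left.hom, Scheme.Hom.comp_preimage]
    rfl
  · have h1 : c'.π.app m.left = e.hom ≫ v := by
      rw [← cancel_mono ((sys f).map m.left.hom ⁻¹ᵁ O₀).ι, Category.assoc]
      refine (Scheme.Hom.resLE_comp_ι _ _).trans ?_
      refine Eq.trans ?_ (congrArg (e.hom ≫ ·) hv).symm
      rw [← Category.assoc, he]
      rfl
    rw [← cancel_epi e.hom, Category.assoc, ← Category.assoc e.hom, ← h1, ← Category.assoc,
      ← Category.assoc, c'.w, Category.assoc, hpt]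

end Groth.Agent.H7Lim.Approx
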