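import Groth.Agent.H7Lim.Approx.GlueRing
import Groth.Agent.H7Lim.IdealExtension

/-!
# Absolute noetherian approximation
-/

set_option autoImplicit false
set_option backward.isDefEq.respectTransparency false
set_option backward.defeqAttrib.useBackward true
set_option linter.style.haveILetI false
set_option linter.unusedSectionVars false

universe u

open AlgebraicGeometry CategoryTheory CategoryTheory.Limits Opposite TopologicalSpace
open AlgebraicGeometry.Scheme

namespace Groth.Agent.H7Lim.Approx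

theorem isNoetherianRing_ulift_int : IsNoetherianRing (ULift.{u} ℤ) :=
  isNoetherianRing_of_ringEquiv ℤ ULift.ringEquiv.symm

/-- Schemes of finite type over `ℤ` are locally noetherian. -/
theorem isLocallyNoetherian_of_toZ (Y : Scheme.{u}) [LocallyOfFiniteType (toZ Y)] :
    IsLocallyNoetherian Y :=
  haveI : IsNoetherianRing (CommRingCat.of (ULift.{u} ℤ)) := isNoetherianRing_ulift_int
  LocallyOfFiniteType.isLocallyNoetherian (toZ Y)

theorem quasiSeparatedSpace_of_toZ (Y : Scheme.{u}) [LocallyOfFiniteType (toZ Y)] :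
    QuasiSeparatedSpace Y :=
  haveI := isLocallyNoetherian_of_toZ Y
  inferInstance

theorem isAffineHom_restrict_of {X P X₀ P₀ : Scheme.{u}} (g : X ⟶ P) (i : P₀ ⟶ P) (a : X₀ ⟶ X)
    (g₀ : X₀ ⟶ P₀) [IsOpenImmersion i] [IsOpenImmersion a] (h : a ≫ g = g₀ ≫ i)
    (hpre : g ⁻¹ᵁ i.opensRange = a.opensRange) [IsAffineHom g₀] :
    IsAffineHom (g ∣_ i.opensRange) := by
  have hpb : IsPullback a g₀ g i := (IsOpenImmersion.isPullback _ _ _ _ h hpre).flip
  rw [MorphismProperty.arrow_mk_iso_iff @IsAffineHom (morphismRestrictOpensRange g i),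
    ← hpb.isoPullback_inv_snd]
  infer_instance

/-- One step of the induction: add an affine open. -/
theorem exists_affineHom_step {X X₁ V : Scheme.{u}} {R : CommRingCat.{u}} (a : X₁ ⟶ X)
    (b : Spec R ⟶ X) [IsOpenImmersion a] [IsOpenImmersion b] (j₁ : V ⟶ X₁) (j₂ : V ⟶ Spec R)
    [IsOpenImmersion j₁] [IsOpenImmersion j₂] (hV : IsPullback j₁ j₂ a b) [CompactSpace V]
    (hcov : a.opensRange ⊔ b.opensRange = ⊤)
    {Y : Scheme.{u}} (f : X₁ ⟶ Y) [IsAffineHom f] [CompactSpace Y] [LocallyOfFiniteType (toZ Y)] :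
    ∃ (Y' : Scheme.{u}) (g : X ⟶ Y'),
      IsAffineHom g ∧ CompactSpace Y' ∧ LocallyOfFiniteType (toZ Y') := by
  haveI := quasiSeparatedSpace_of_toZ Y
  obtain ⟨s, J, O, hO, σ, hσ, v, hOc, hv, hvσ, hrange⟩ := exists_step_ring f j₁ j₂
  let A := CommRingCat.of (Subring.closure (s : Set R))
  let ψ : Spec R ⟶ Spec A := Spec.map (CommRingCat.ofHom (Subring.closure (s : Set R)).subtype)
  obtain ⟨P, i₁, i₂, p, hi₁, hi₂, hw, hp₁, hp₂, hPcov, hinter⟩ :=
    exists_glue_open O.ι σ (toZ J.spec) (toZ (Spec A)) (specULiftZIsTerminal.hom_ext _ _)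
  have hV' : j₁ ≫ (J.toSpec ≫ i₁) = j₂ ≫ (ψ ≫ i₂) := by
    rw [← Category.assoc, ← hv, Category.assoc, hw, ← Category.assoc, hvσ, Category.assoc]
  -- glue on the cover of `X`
  let U : Bool → X.Opens := fun t ↦ if t then a.opensRange else b.opensRange
  have hU : ⨆ t, U t = ⊤ := by
    rw [← hcov, iSup_bool_eq]; rfl
  let ea : a.opensRange.toScheme ≅ X₁ := a.isoOpensRange.symm
  let eb : b.opensRange.toScheme ≅ Spec R := b.isoOpensRange.symm
  let 𝒰 : X.OpenCover := X.openCoverOfIsOpenCover U hU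
  have hcompat : ∀ t t' : Bool, pullback.fst (𝒰.f t) (𝒰.f t') ≫
      (Bool.rec (motive := fun t ↦ (U t).toScheme ⟶ P) (eb.hom ≫ ψ ≫ i₂) (ea.hom ≫ J.toSpec ≫ i₁) t) =
      pullback.snd (𝒰.f t) (𝒰.f t') ≫
      (Bool.rec (motive := fun t ↦ (U t).toScheme ⟶ P) (eb.hom ≫ ψ ≫ i₂) (ea.hom ≫ J.toSpec ≫ i₁) t') := by
    have key : ∀ {T : Scheme.{u}} (x : T ⟶ a.opensRange.toScheme) (y : T ⟶ b.opensRange.toScheme),
        x ≫ a.opensRange.ι = y ≫ b.opensRange.ι →
          x ≫ ea.hom ≫ J.toSpec ≫ i₁ = y ≫ eb.hom ≫ ψ ≫ i₂ := by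
      intro T x y hxy
      have hxy' : (x ≫ ea.hom) ≫ a = (y ≫ eb.hom) ≫ b := by
        simpa [ea, eb] using hxy
      obtain ⟨z, hz₁, hz₂⟩ := hV.exists_lift _ _ hxy'
      calc x ≫ ea.hom ≫ J.toSpec ≫ i₁ = z ≫ j₁ ≫ J.toSpec ≫ i₁ := by
            rw [← Category.assoc x, ← hz₁, Category.assoc]
        _ = z ≫ j₂ ≫ ψ ≫ i₂ := by rw [hV']
        _ = y ≫ eb.hom ≫ ψ ≫ i₂ := by rw [← Category.assoc y, ← hz₂, Category.assoc]
    intro t t'
    cases t <;> cases t'
    · rw [← cancel_mono (𝟙 P)]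
      congr 2
      exact (cancel_mono (𝒰.f false)).1 pullback.condition
    · exact (key _ _ pullback.condition.symm).symm
    · exact key _ _ pullback.condition
    · rw [← cancel_mono (𝟙 P)]
      congr 2
      exact (cancel_mono (𝒰.f true)).1 pullback.condition
  let g : X ⟶ P := 𝒰.glueMorphisms _ hcompat
  have hga : a ≫ g = J.toSpec ≫ i₁ := by
    have h := 𝒰.ι_glueMorphisms _ hcompat true
    rw [← Iso.inv_hom_id_assoc ea (J.toSpec ≫ i₁), ← show (𝒰.f true ≫ g) = ea.hom ≫ J.toSpec ≫ i₁ from h,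
      ← Category.assoc]
    exact congrArg (· ≫ g) (a.isoOpensRange_hom_ι).symm
  have hgb : b ≫ g = ψ ≫ i₂ := by
    have h := 𝒰.ι_glueMorphisms _ hcompat false
    rw [← Iso.inv_hom_id_assoc eb (ψ ≫ i₂), ← show (𝒰.f false ≫ g) = eb.hom ≫ ψ ≫ i₂ from h,
      ← Category.assoc]
    exact congrArg (· ≫ g) (b.isoOpensRange_hom_ι).symm
  -- the preimages
  have hmem : ∀ x : X, (∃ y, a y = x) ∨ ∃ y, b y = x := fun x ↦ by
    have : x ∈ a.opensRange ⊔ b.opensRange := hcov ▸ trivial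
    exact this
  have hcross₁ : ∀ (y : Spec R) (z : J.spec), i₁ z = i₂ (ψ y) → ∃ y₁, a y₁ = b y := by
    intro y z h
    obtain ⟨w, hw'⟩ : y ∈ j₂.opensRange := hrange.le (show ψ y ∈ σ.opensRange from (hinter _ _ h).2)
    exact ⟨j₁ w, by rw [← hw', ← Scheme.Hom.comp_apply, ← Scheme.Hom.comp_apply, hV.w]⟩
  have hcross₂ : ∀ (y : X₁) (z : Spec A), i₁ (J.toSpec y) = i₂ z → ∃ y₂, b y₂ = a y := by
    intro y z h
    have h1 : J.toSpec y ∈ O := by simpa using (hinter _ _ h).1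
    obtain ⟨w, hw'⟩ : y ∈ j₁.opensRange := hO.le h1
    exact ⟨j₂ w, by rw [← hw', ← Scheme.Hom.comp_apply, ← Scheme.Hom.comp_apply, hV.w]⟩
  have hpre₁ : g ⁻¹ᵁ i₁.opensRange = a.opensRange := by
    refine le_antisymm ?_ ?_
    · intro x hx
      obtain ⟨z, hz⟩ := hx
      rcases hmem x with ⟨y, rfl⟩ | ⟨y, rfl⟩
      · exact ⟨y, rfl⟩
      · exact hcross₁ y z (by rw [hz, ← Scheme.Hom.comp_apply, hgb]; rfl)
    · intro x hx
      obtain ⟨y, rfl⟩ := hx
      exact ⟨J.toSpec y, by rw [← Scheme.Hom.comp_apply, ← hga]; rfl⟩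
  have hpre₂ : g ⁻¹ᵁ i₂.opensRange = b.opensRange := by
    refine le_antisymm ?_ ?_
    · intro x hx
      obtain ⟨z, hz⟩ := hx
      rcases hmem x with ⟨y, rfl⟩ | ⟨y, rfl⟩
      · exact hcross₂ y z (by rw [hz, ← Scheme.Hom.comp_apply _ g, hga]; rfl)
      · exact ⟨y, rfl⟩
    · intro x hx
      obtain ⟨y, rfl⟩ := hx
      exact ⟨ψ y, by rw [← Scheme.Hom.comp_apply, ← hgb]; rfl⟩
  haveI : IsAffineHom J.toSpec := by
    haveI : IsAffineHom (J.toSpec ≫ J.proj) := by rw [J.toSpec_proj]; infer_instance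
    exact MorphismProperty.of_postcomp @IsAffineHom J.toSpec J.proj
      (show IsSeparated J.proj from inferInstance) ‹_›
  have hPtop : i₁.opensRange ⊔ i₂.opensRange = ⊤ := top_le_iff.mp fun x _ ↦ hPcov x
  refine ⟨P, g, ?_, ?_, ?_⟩
  · refine IsZariskiLocalAtTarget.of_iSup_eq_top (P := @IsAffineHom)
      (fun t : Bool ↦ if t then i₁.opensRange else i₂.opensRange)
      (by rw [iSup_bool_eq]; exact hPtop) fun t ↦ ?_
    cases t
    · exact isAffineHom_restrict_of g i₂ b ψ hgb hpre₂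
    · exact isAffineHom_restrict_of g i₁ a J.toSpec hga hpre₁
  · constructor
    have : (Set.univ : Set P) = Set.range i₁ ∪ Set.range i₂ := (Set.eq_univ_of_forall hPcov).symm
    rw [this]
    exact (isCompact_range i₁.continuous).union (isCompact_range i₂.continuous)
  · haveI := lfp_toZ_of_closure s
    haveI : LocallyOfFiniteType (toZ J.spec) := by
      rw [← toZ_eq (J.proj ≫ toZ Y)]; infer_instance
    let 𝒱 : P.OpenCover := P.openCoverOfIsOpenCover
      (fun t : Bool ↦ if t then i₁.opensRange else i₂.opensRange) (by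
        rw [TopologicalSpace.IsOpenCover, iSup_bool_eq]; exact hPtop)
    refine IsZariskiLocalAtSource.of_openCover (P := @LocallyOfFiniteType) 𝒱 fun t ↦ ?_
    cases t
    · show LocallyOfFiniteType (i₂.opensRange.ι ≫ toZ P)
      rw [← MorphismProperty.cancel_left_of_respectsIso @LocallyOfFiniteType i₂.isoOpensRange.hom,
        comp_toZ, comp_toZ]
      infer_instance
    · show LocallyOfFiniteType (i₁.opensRange.ι ≫ toZ P)
      rw [← MorphismProperty.cancel_left_of_respectsIso @LocallyOfFiniteType i₁.isoOpensRange.hom,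
        comp_toZ, comp_toZ]
      infer_instance

/-- **Absolute approximation**: a qcqs scheme is affine over a scheme of finite type over `ℤ`. -/
theorem exists_affineHom_finiteType (X : Scheme.{u}) [CompactSpace X] [QuasiSeparatedSpace X] :
    ∃ (Y : Scheme.{u}) (f : X ⟶ Y),
      IsAffineHom f ∧ CompactSpace Y ∧ LocallyOfFiniteType (toZ Y) := by
  classical
  suffices ∀ S : Finset X.affineOpens, ∃ (Y : Scheme.{u})
      (f : (S.sup (fun U ↦ U.1) : X.Opens).toScheme ⟶ Y),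
      IsAffineHom f ∧ CompactSpace Y ∧ LocallyOfFiniteType (toZ Y) by
    obtain ⟨S, hS, hSeq⟩ := isCompact_iff_finite_and_eq_biUnion_affineOpens.1
      (show IsCompact ((⊤ : X.Opens) : Set X) from isCompact_univ)
    obtain ⟨Y, f, hf, hY, hYt⟩ := this hS.toFinset
    have htop : (hS.toFinset.sup (fun U ↦ U.1) : X.Opens) = ⊤ := by
      rw [hSeq, Finset.sup_eq_iSup]; simp [hS.mem_toFinset]
    haveI : IsIso (hS.toFinset.sup (fun U ↦ U.1) : X.Opens).ι := by
      rw [htop]; exact X.topIso.isIso_hom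
    exact ⟨Y, inv (hS.toFinset.sup (fun U ↦ U.1) : X.Opens).ι ≫ f, inferInstance, hY, hYt⟩
  intro S
  induction S using Finset.induction with
  | empty =>
    rw [Finset.sup_empty]
    haveI : IsEmpty (⊥ : X.Opens).toScheme := ⟨fun x ↦ x.2⟩
    exact ⟨_, 𝟙 _, inferInstance, inferInstance, inferInstance⟩
  | @insert U S hUS ih =>
    obtain ⟨Y, f, hf, hY, hYt⟩ := ih
    let W : X.Opens := S.sup (fun U ↦ U.1)
    have hWc : IsCompact (W : Set X) := isCompact_finset_sup S
    haveI : IsAffine U.1.toScheme := U.2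
    haveI : CompactSpace (W ⊓ U.1 : X.Opens).toScheme := isCompact_iff_compactSpace.mp
      (hWc.inter_of_isOpen U.2.isCompact W.2 U.1.2)
    have hT : (insert U S).sup (fun U ↦ (U.1 : X.Opens)) = U.1 ⊔ W := Finset.sup_insert
    rw [hT]
    let a : W.toScheme ⟶ (U.1 ⊔ W : X.Opens).toScheme := X.homOfLE le_sup_right
    let b : Spec Γ(X, U.1) ⟶ (U.1 ⊔ W : X.Opens).toScheme := U.2.isoSpec.inv ≫ X.homOfLE le_sup_left
    have hV : IsPullback (X.homOfLE (inf_le_left : W ⊓ U.1 ≤ W))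
        (X.homOfLE (inf_le_right : W ⊓ U.1 ≤ U.1) ≫ U.2.isoSpec.hom) a b := by
      refine (IsOpenImmersion.isPullback (X.homOfLE inf_le_right) (X.homOfLE inf_le_left)
        (X.homOfLE le_sup_left) a (by simp [a]) ?_).flip.of_iso
        (Iso.refl _) (Iso.refl _) U.2.isoSpec (Iso.refl _) (by simp) (by simp) (by simp) (by simp [b])
      simp only [a, Scheme.opensRange_homOfLE, ← Scheme.Hom.comp_preimage, Scheme.homOfLE_ι]
      ext x
      exact ⟨fun h ↦ ⟨x.2, h⟩, fun h ↦ h.2⟩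
    refine exists_affineHom_step a b _ _ hV ?_ f
    rw [← top_le_iff]
    rintro ⟨x, hx⟩ -
    rcases hx with hx | hx
    · refine Or.inr ⟨U.2.isoSpec.hom ⟨x, hx⟩, ?_⟩
      rw [← Scheme.Hom.comp_apply, Iso.hom_inv_id_assoc]
      apply Subtype.ext; simp
    · exact Or.inl ⟨⟨x, hx⟩, Subtype.ext (by simp [a])⟩

end Groth.Agent.H7Lim.Approx
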