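import Groth.Agent.H7Lim.Approx.AffineHom

/-!
# The affine morphism attached to a quasi-coherent presheaf of algebras on the affine site
-/

set_option autoImplicit false
set_option backward.isDefEq.respectTransparency false
set_option backward.defeqAttrib.useBackward true
set_option linter.style.haveILetI false

universe u

open AlgebraicGeometry CategoryTheory CategoryTheory.Limits Opposite
open AlgebraicGeometry.Scheme AlgebraicGeometry.Scheme.AffineZariskiSite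

namespace Groth.Agent.H7Lim.Approx

variable {Y : Scheme.{u}} {F : Y.AffineZariskiSiteᵒᵖ ⥤ CommRingCat.{u}}
  {α : (AffineZariskiSite.toOpensFunctor Y).op ⋙ Y.presheaf ⟶ F}

/-- A coequifibered presheaf of algebras on the affine site comes from an affine morphism. -/
theorem exists_affine_of_coequifibered (H : α.Coequifibered) :
    ∃ (P : Scheme.{u}) (p : P ⟶ Y) (_ : IsAffineHom p)
      (ε : ∀ U : Y.affineOpens, Γ(P, p ⁻¹ᵁ U.1) ⟶ F.obj (op ⟨U.1, U.2⟩)),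
      (∀ U, IsIso (ε U)) ∧ (∀ U : Y.affineOpens, p.app U.1 ≫ ε U = α.app (op ⟨U.1, U.2⟩)) ∧
      ∀ (U : Y.affineOpens) (r : Γ(Y, U.1)),
        P.presheaf.map (homOfLE (p.preimage_mono (Y.basicOpen_le r))).op ≫
            ε ⟨Y.basicOpen r, U.2.basicOpen r⟩ =
          ε U ≫ F.map (homOfLE (AffineZariskiSite.basicOpen_le ⟨U.1, U.2⟩ r)).op := by
  let d := relativeGluingData H
  haveI : (d.functor ⋙ Scheme.forget).IsLocallyDirected :=
    Cover.RelativeGluingData.instIsLocallyDirectedI₀CompFunctorForgetOfIsThin ..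
  let c : ∀ U : Y.AffineZariskiSite, Spec (F.obj (op U)) ⟶ d.glued := fun U ↦ d.cover.f U
  haveI hc : ∀ U, IsOpenImmersion (c U) := fun U ↦ d.cover.map_prop U
  have hproj : ∀ U : Y.AffineZariskiSite,
      c U ≫ d.toBase = Spec.map (α.app (op U)) ≫ U.2.fromSpec := fun U ↦ colimit.ι_desc _ _
  have hpre : ∀ U : Y.AffineZariskiSite, d.toBase ⁻¹ᵁ U.1 = (c U).opensRange := fun U ↦ by
    simpa using! d.toBase_preimage_eq_opensRange_ι U
  have hw : ∀ {U V : Y.AffineZariskiSite} (i : U ⟶ V), Spec.map (F.map i.op) ≫ c V = c U :=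
    fun i ↦ colimit.w d.functor i
  haveI : IsAffineHom d.toBase := ⟨fun U hU ↦ by
    rw [hpre ⟨U, hU⟩]; exact isAffineOpen_opensRange (c ⟨U, hU⟩)⟩
  have hle : ∀ U : Y.AffineZariskiSite, ⊤ ≤ c U ⁻¹ᵁ (d.toBase ⁻¹ᵁ U.1) := fun U ↦ by
    rw [hpre U, Scheme.Hom.preimage_opensRange]
  let ε : ∀ U : Y.AffineZariskiSite, Γ(d.glued, d.toBase ⁻¹ᵁ U.1) ⟶ F.obj (op U) := fun U ↦
    (c U).appLE _ ⊤ (hle U) ≫ (Scheme.ΓSpecIso _).hom
  refine ⟨d.glued, d.toBase, inferInstance, fun U ↦ ε ⟨U.1, U.2⟩, fun U ↦ ?_, fun U ↦ ?_, fun U r ↦ ?_⟩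
  · have : IsIso ((c ⟨U.1, U.2⟩).app (d.toBase ⁻¹ᵁ U.1)) :=
      (c ⟨U.1, U.2⟩).isIso_app _ (hpre ⟨U.1, U.2⟩).le
    have h1 : c ⟨U.1, U.2⟩ ⁻¹ᵁ (d.toBase ⁻¹ᵁ U.1) = ⊤ := top_le_iff.mp (hle ⟨U.1, U.2⟩)
    haveI : IsIso ((c ⟨U.1, U.2⟩).appLE (d.toBase ⁻¹ᵁ U.1) ⊤ (hle ⟨U.1, U.2⟩)) := by
      rw [Scheme.Hom.appLE, show homOfLE (hle ⟨U.1, U.2⟩) = eqToHom h1.symm from Subsingleton.elim _ _]
      infer_instance
    infer_instance
  · show d.toBase.app U.1 ≫ (c ⟨U.1, U.2⟩).appLE _ ⊤ _ ≫ _ = _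
    rw [Scheme.Hom.app_eq_appLE, Scheme.Hom.appLE_comp_appLE_assoc]
    simp only [hproj]
    rw [← Scheme.Hom.appLE_comp_appLE (Spec.map (α.app (op ⟨U.1, U.2⟩))) U.2.fromSpec U.1 ⊤ ⊤
      (by rw [IsAffineOpen.fromSpec_preimage_self]) le_top, Category.assoc]
    have h1 : U.2.fromSpec.appLE U.1 ⊤ (by rw [IsAffineOpen.fromSpec_preimage_self]) =
        (Scheme.ΓSpecIso _).inv := by
      simp [Scheme.Hom.appLE, U.2.fromSpec_app_self, ← Functor.map_comp]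
    have h2 : ∀ {A B : CommRingCat.{u}} (φ : A ⟶ B),
        (Scheme.ΓSpecIso A).inv ≫ (Spec.map φ).appLE ⊤ ⊤ le_top ≫ (Scheme.ΓSpecIso B).hom = φ := by
      intro A B φ
      simp [Scheme.Hom.appLE]
    rw [h1]
    exact h2 _
  · let i := homOfLE (AffineZariskiSite.basicOpen_le (X := Y) ⟨U.1, U.2⟩ r)
    show d.glued.presheaf.map _ ≫ (c ⟨Y.basicOpen r, U.2.basicOpen r⟩).appLE _ ⊤ _ ≫ _ =
      ((c ⟨U.1, U.2⟩).appLE _ ⊤ _ ≫ _) ≫ F.map i.op
    rw [Scheme.Hom.map_appLE_assoc, Category.assoc, ← Scheme.ΓSpecIso_naturality,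
      Scheme.Hom.appTop, ← Scheme.Hom.appLE_eq_app, Scheme.Hom.appLE_comp_appLE_assoc]
    simp only [hw i]
    rfl

end Groth.Agent.H7Lim.Approx
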