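import Groth.Agent.H7Lim.Approx.Absolute

/-!
# Ring theoretic step of absolute approximation: enlarging a finitely generated model
-/

set_option autoImplicit false
set_option backward.isDefEq.respectTransparency false
set_option backward.defeqAttrib.useBackward true
set_option linter.style.haveILetI false
set_option linter.unusedSectionVars false

universe u

open AlgebraicGeometry CategoryTheory CategoryTheory.Limits Opposite TopologicalSpace
open AlgebraicGeometry.Scheme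

namespace Groth.Agent.H7Lim.Approx

/-- The map to a relative spectrum of a subalgebra is injective on all sections. -/
theorem Sub.IsSpec.app_injective {X Y P : Scheme.{u}} {f : X ⟶ Y} [QuasiCompact f] [QuasiSeparated f]
    {J : Sub f} {p : P ⟶ Y} {a : X ⟶ P} (h : J.IsSpec p a) (O : P.Opens) :
    Function.Injective (a.app O) := by
  rw [injective_iff_map_eq_zero]
  intro z hz
  haveI := h.isAffineHom
  refine TopCat.Presheaf.IsSheaf.section_ext P.sheaf.cond fun x hx ↦ ?_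
  obtain ⟨U, hU, hxU, -⟩ := exists_isAffineOpen_mem_and_subset (Set.mem_univ (p x)) (U := (⊤ : Y.Opens))
  have hPU : IsAffineOpen (p ⁻¹ᵁ U) := hU.preimage p
  obtain ⟨g, hgO, hxg⟩ := hPU.exists_basicOpen_le (V := O) ⟨x, hx⟩ hxU
  refine ⟨P.basicOpen g, hgO, hxg, ?_⟩
  show P.presheaf.map _ z = P.presheaf.map _ 0
  rw [map_zero]
  haveI := hPU.isLocalization_basicOpen g
  obtain ⟨⟨w, _, n, rfl⟩, hw⟩ := IsLocalization.surj (Submonoid.powers g)
    (P.presheaf.map (homOfLE hgO).op z)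
  -- the numerator dies in `X` after multiplication by a power of `g`
  let hle := preimage_le p f h.fac U
  let gX := a.appLE (p ⁻¹ᵁ U) (f ⁻¹ᵁ U) hle g
  have hbo : X.basicOpen gX = (f ⁻¹ᵁ U) ⊓ a ⁻¹ᵁ P.basicOpen g := by
    simp only [gX, Scheme.Hom.appLE, CommRingCat.comp_apply, Scheme.basicOpen_res]
    rw [← a.preimage_basicOpen]
  have hzero : X.presheaf.map (homOfLE (hbo.trans_le inf_le_left : X.basicOpen gX ≤ f ⁻¹ᵁ U)).op
      (a.appLE (p ⁻¹ᵁ U) (f ⁻¹ᵁ U) hle w) = 0 := by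
    have e1 : (P.presheaf.map (homOfLE (P.basicOpen_le g)).op w) =
        P.presheaf.map (homOfLE hgO).op z * P.presheaf.map (homOfLE (P.basicOpen_le g)).op (g ^ n) :=
      hw.symm
    have e2 := congr(a.appLE (P.basicOpen g) (X.basicOpen gX) (hbo.trans_le inf_le_right) $e1)
    rw [map_mul] at e2
    simp only [← CommRingCat.comp_apply, Scheme.Hom.map_appLE] at e2
    rw [show a.appLE O (X.basicOpen gX) ((hbo.trans_le inf_le_right).trans (a.preimage_mono hgO)) z =
        X.presheaf.map (homOfLE ((hbo.trans_le inf_le_right).trans (a.preimage_mono hgO))).op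
          (a.app O z) from rfl, hz, map_zero, zero_mul] at e2
    rw [← CommRingCat.comp_apply, Scheme.Hom.appLE_map]
    exact e2
  haveI hq := isLocalization_basicOpen_of_qcqs (f.isCompact_preimage hU.isCompact)
    (f.isQuasiSeparated_preimage hU.isQuasiSeparated) gX
  obtain ⟨⟨_, m, rfl⟩, hm⟩ := IsLocalization.exists_of_eq (M := Submonoid.powers gX)
    (S := Γ(X, X.basicOpen gX)) (x := a.appLE (p ⁻¹ᵁ U) (f ⁻¹ᵁ U) hle w) (y := 0)
    (hzero.trans (map_zero _).symm)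
  have hw0 : g ^ m * w = 0 := h.injective ⟨U, hU⟩ (by
    show (a.appLE (p ⁻¹ᵁ U) (f ⁻¹ᵁ U) hle).hom (g ^ m * w) = (a.appLE (p ⁻¹ᵁ U) (f ⁻¹ᵁ U) hle).hom 0
    rw [map_mul, map_pow, map_zero]
    exact hm.trans (mul_zero _))
  have hunit : IsUnit (algebraMap Γ(P, p ⁻¹ᵁ U) Γ(P, P.basicOpen g) g) :=
    IsLocalization.map_units _ (⟨g, Submonoid.mem_powers g⟩ : Submonoid.powers g)
  have h2 := congr(algebraMap Γ(P, p ⁻¹ᵁ U) Γ(P, P.basicOpen g) $hw0)
  rw [map_mul, map_pow, map_zero] at h2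
  rw [show (algebraMap Γ(P, p ⁻¹ᵁ U) Γ(P, P.basicOpen g)) w = _ from hw.symm] at h2
  have h3 := ((hunit.pow m).mul_right_eq_zero).1 h2
  rw [map_pow] at h3
  exact ((hunit.pow n).mul_left_eq_zero).1 h3

theorem isIso_of_appTop_bijective {X Y : Scheme.{u}} [IsAffine X] [IsAffine Y] (g : X ⟶ Y)
    (h : Function.Bijective g.appTop) : IsIso g := by
  haveI : IsIso g.appTop := (ConcreteCategory.isIso_iff_bijective _).mpr h
  rw [show g = X.isoSpec.hom ≫ Spec.map g.appTop ≫ Y.isoSpec.inv by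
    rw [Scheme.isoSpec_inv_naturality, Iso.hom_inv_id_assoc]]
  infer_instance

section secV

variable {V : Scheme.{u}} {R : CommRingCat.{u}} (j₂ : V ⟶ Spec R)

/-- `R → Γ(V)`. -/
noncomputable abbrev secV : R ⟶ Γ(V, ⊤) := (Scheme.ΓSpecIso R).inv ≫ j₂.appTop

theorem secV_comp {A : CommRingCat.{u}} (φ : A ⟶ R) :
    (Scheme.ΓSpecIso A).inv ≫ (j₂ ≫ Spec.map φ).appTop = φ ≫ secV j₂ := by
  rw [Scheme.Hom.comp_appTop, ← Scheme.ΓSpecIso_inv_naturality_assoc]

theorem basicOpen_secV (h : R) :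
    V.basicOpen (secV j₂ h) = j₂ ⁻¹ᵁ (PrimeSpectrum.basicOpen h : (Spec R).Opens) := by
  rw [← basicOpen_eq_of_affine, j₂.preimage_basicOpen_top]
  rfl

end secV

variable {X₁ Y V : Scheme.{u}} (f : X₁ ⟶ Y) [IsAffineHom f] [CompactSpace Y] [QuasiSeparatedSpace Y]
  [LocallyOfFiniteType (toZ Y)]
variable {R : CommRingCat.{u}} (j₁ : V ⟶ X₁) (j₂ : V ⟶ Spec R) [IsOpenImmersion j₁]
  [IsOpenImmersion j₂] [CompactSpace V]

/-- Over a basic open of `Spec R` contained in `V`, the sections of `V` are fractions from `R`. -/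
theorem exists_secV_eq (h : R) (hh : (PrimeSpectrum.basicOpen h : (Spec R).Opens) ≤ j₂.opensRange)
    (x : Γ(V, ⊤)) : ∃ (n : ℕ) (r : R), secV j₂ r = x * secV j₂ h ^ n := by
  haveI : QuasiSeparatedSpace V := quasiSeparatedSpace_of_quasiSeparated j₂
  let D : (Spec R).Opens := (Spec R).basicOpen ((Scheme.ΓSpecIso R).inv h)
  have hD : D ≤ j₂.opensRange := by
    show (Spec R).basicOpen _ ≤ _; rw [basicOpen_eq_of_affine]; exact hh
  haveI := j₂.isIso_app D hD
  have hB : V.basicOpen (secV j₂ h) = j₂ ⁻¹ᵁ D := (j₂.preimage_basicOpen_top _).symm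
  let xD := V.presheaf.map (homOfLE (le_top : j₂ ⁻¹ᵁ D ≤ ⊤)).op x
  haveI := (isAffineOpen_top (Spec R)).isLocalization_basicOpen ((Scheme.ΓSpecIso R).inv h)
  obtain ⟨⟨r, _, n, rfl⟩, hr⟩ := IsLocalization.surj (Submonoid.powers ((Scheme.ΓSpecIso R).inv h))
    (inv (j₂.app D) xD : Γ(Spec R, D))
  have hres : ∀ y : Γ(Spec R, ⊤), V.presheaf.map (homOfLE hB.le).op
      (j₂.app D ((Spec R).presheaf.map (homOfLE (le_top : D ≤ ⊤)).op y)) =
      V.presheaf.map (homOfLE (le_top : V.basicOpen (secV j₂ h) ≤ ⊤)).op (j₂.appTop y) := by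
    intro y
    have : (Spec R).presheaf.map (homOfLE (le_top : D ≤ ⊤)).op ≫ j₂.app D ≫
        V.presheaf.map (homOfLE hB.le).op = j₂.appTop ≫
          V.presheaf.map (homOfLE (le_top : V.basicOpen (secV j₂ h) ≤ ⊤)).op := by
      simp [Scheme.Hom.app_eq_appLE, Scheme.Hom.appTop]
    exact congr($this y)
  have e1 : V.presheaf.map (homOfLE hB.le).op xD *
      V.presheaf.map (homOfLE (le_top : V.basicOpen (secV j₂ h) ≤ ⊤)).op (secV j₂ h) ^ n =
      V.presheaf.map (homOfLE (le_top : V.basicOpen (secV j₂ h) ≤ ⊤)).op (j₂.appTop r) := by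
    have h0 : j₂.app D (inv (j₂.app D) xD) = xD := by
      rw [← CommRingCat.comp_apply, IsIso.inv_hom_id]; rfl
    have h1 : (secV j₂ h) ^ n = j₂.appTop (((Scheme.ΓSpecIso R).inv h) ^ n) :=
      (map_pow j₂.appTop.hom _ _).symm
    rw [← map_pow, h1, ← hres, ← hres, ← h0, ← map_mul, ← map_mul]
    exact congrArg _ (congrArg _ hr)
  have hq : IsLocalization.Away (secV j₂ h) Γ(V, V.basicOpen (secV j₂ h)) :=
    isLocalization_basicOpen_of_qcqs (U := ⊤) isCompact_univ
      (isQuasiSeparated_univ_iff.mpr inferInstance) (secV j₂ h)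
  obtain ⟨⟨_, k, rfl⟩, hk⟩ := IsLocalization.exists_of_eq (M := Submonoid.powers (secV j₂ h))
    (S := Γ(V, V.basicOpen (secV j₂ h))) (x := x * secV j₂ h ^ n) (y := j₂.appTop r) (by
      rw [map_mul, map_pow]
      refine Eq.trans ?_ e1
      simp only [xD, RingHom.algebraMap_toAlgebra, ← CommRingCat.comp_apply, ← Functor.map_comp]
      rfl)
  refine ⟨k + n, h ^ k * (Scheme.ΓSpecIso R).hom r, ?_⟩
  have e2 : secV j₂ ((Scheme.ΓSpecIso R).hom r) = j₂.appTop r := by
    simp [secV, ← CommRingCat.comp_apply, -CommRingCat.hom_comp]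
  rw [map_mul, map_pow, e2, pow_add]
  dsimp only at hk
  rw [← hk]
  ring

/-- An element of `R` vanishing on `V` is killed by a power of `h` when `D(h) ⊆ V`. -/
theorem exists_pow_mul_of_secV_eq_zero (h : R)
    (hh : (PrimeSpectrum.basicOpen h : (Spec R).Opens) ≤ j₂.opensRange)
    (x : R) (hx : secV j₂ x = 0) : ∃ k : ℕ, h ^ k * x = 0 := by
  let D : (Spec R).Opens := (Spec R).basicOpen ((Scheme.ΓSpecIso R).inv h)
  have hD : D ≤ j₂.opensRange := by
    show (Spec R).basicOpen _ ≤ _; rw [basicOpen_eq_of_affine]; exact hh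
  haveI := j₂.isIso_app D hD
  haveI := (isAffineOpen_top (Spec R)).isLocalization_basicOpen ((Scheme.ΓSpecIso R).inv h)
  have h0 : (Spec R).presheaf.map (homOfLE (le_top : D ≤ ⊤)).op ((Scheme.ΓSpecIso R).inv x) = 0 := by
    apply (ConcreteCategory.bijective_of_isIso (j₂.app D)).1
    rw [map_zero, ← CommRingCat.comp_apply, Scheme.Hom.naturality, CommRingCat.comp_apply]
    exact (congrArg _ hx).trans (map_zero _)
  obtain ⟨⟨_, k, rfl⟩, hk⟩ := IsLocalization.exists_of_eq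
    (M := Submonoid.powers ((Scheme.ΓSpecIso R).inv h)) (S := Γ(Spec R, D))
    (x := (Scheme.ΓSpecIso R).inv x) (y := 0) (h0.trans (map_zero _).symm)
  exact ⟨k, by
    have := congr((Scheme.ΓSpecIso R).hom $hk)
    simpa [← CommRingCat.comp_apply, -CommRingCat.hom_comp] using this⟩

/-- A morphism which is an isomorphism over opens covering its image is an open immersion. -/
theorem isOpenImmersion_of_isIso_restrict {O T : Scheme.{u}} (σ : O ⟶ T) {ι : Type*}
    (E : ι → T.Opens) {W : T.Opens} (hW : ∀ x, σ x ∈ W) (hWE : W = ⨆ i, E i)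
    (h : ∀ i, IsIso (σ ∣_ E i)) : ∃ _ : IsOpenImmersion σ, σ.opensRange = W := by
  let σ' : O ⟶ W.toScheme := IsOpenImmersion.lift W.ι σ (by
    rw [Scheme.Opens.range_ι]; rintro _ ⟨x, rfl⟩; exact hW x)
  have hσ' : σ' ≫ W.ι = σ := IsOpenImmersion.lift_fac _ _ _
  have : IsIso σ' := by
    rw [← MorphismProperty.isomorphisms.iff]
    refine (IsZariskiLocalAtTarget.iff_of_iSup_eq_top (fun i ↦ W.ι ⁻¹ᵁ E i) ?_).mpr fun i ↦ ?_
    · rw [← Scheme.Hom.preimage_iSup, ← hWE, Scheme.Opens.ι_preimage_self]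
    rw [MorphismProperty.isomorphisms.iff]
    haveI : IsIso (W.ι ∣_ E i) := by
      have hle : E i ≤ W := hWE.ge.trans' (le_iSup E i)
      haveI : Surjective (W.ι ∣_ E i) := ⟨fun x ↦ ⟨⟨⟨x.1, hle x.2⟩, x.2⟩, Subtype.ext (by simp)⟩⟩
      exact (isIso_iff_isOpenImmersion_and_surjective _).mpr ⟨inferInstance, inferInstance⟩
    have h2 : IsIso ((σ' ≫ W.ι) ∣_ E i) := by rw [hσ']; exact h i
    rw [morphismRestrict_comp] at h2
    exact IsIso.of_isIso_comp_right (σ' ∣_ W.ι ⁻¹ᵁ E i) (W.ι ∣_ E i)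
  have hoi : IsOpenImmersion σ := hσ' ▸ inferInstance
  refine ⟨hoi, ?_⟩
  simp only [← hσ', Scheme.Hom.opensRange_comp_of_isIso, Scheme.Opens.opensRange_ι]

theorem hA_basicOpen {A : CommRingCat.{u}} (h : A) :
    IsAffineOpen (X := Spec A) (PrimeSpectrum.basicOpen h) := by
  have := (isAffineOpen_top (Spec A)).basicOpen ((Scheme.ΓSpecIso A).inv h)
  rwa [basicOpen_eq_of_affine] at this

/-- Localisation at a global section of a qcqs scheme. -/
theorem isLocalization_top {O : Scheme.{u}} [CompactSpace O] [QuasiSeparatedSpace O] (x : Γ(O, ⊤)) :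
    IsLocalization.Away x Γ(O, O.basicOpen x) :=
  isLocalization_basicOpen_of_qcqs (U := ⊤) isCompact_univ
    (isQuasiSeparated_univ_iff.mpr inferInstance) x

theorem bijective_comp {A B C : CommRingCat.{u}} (g₁ : A ⟶ B) (g₂ : B ⟶ C)
    (h₁ : Function.Bijective g₁) (h₂ : Function.Bijective g₂) : Function.Bijective (g₁ ≫ g₂) := by
  exact h₂.comp h₁

/-- Criterion for `σ : O ⟶ Spec A` to be an isomorphism over a basic open. -/
theorem isIso_restrict_basicOpen {O : Scheme.{u}} [CompactSpace O] [QuasiSeparatedSpace O]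
    {A : CommRingCat.{u}} (σ : O ⟶ Spec A) (h : A)
    (haff : IsAffineOpen (O.basicOpen (secV σ h)))
    (hinj : ∀ a : A, (∃ k : ℕ, secV σ h ^ k * secV σ a = 0) → ∃ k : ℕ, h ^ k * a = 0)
    (hsurj : ∀ x : Γ(O, ⊤), ∃ (m : ℕ) (a : A), secV σ a = x * secV σ h ^ m) :
    IsIso (σ ∣_ (Spec A).basicOpen ((Scheme.ΓSpecIso A).inv h)) := by
  let E : (Spec A).Opens := (Spec A).basicOpen ((Scheme.ΓSpecIso A).inv h)
  have hσE : σ ⁻¹ᵁ E = O.basicOpen (secV σ h) := σ.preimage_basicOpen_top _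
  haveI := isLocalization_top (secV σ h)
  haveI hEloc := (isAffineOpen_top (Spec A)).isLocalization_basicOpen ((Scheme.ΓSpecIso A).inv h)
  let w : A → Γ(Spec A, E) := fun a ↦
    algebraMap Γ(Spec A, ⊤) Γ(Spec A, E) ((Scheme.ΓSpecIso A).inv a)
  let u := algebraMap Γ(O, ⊤) Γ(O, O.basicOpen (secV σ h))
  have hu : IsUnit (w h) := IsLocalization.map_units _
    (⟨_, Submonoid.mem_powers _⟩ : Submonoid.powers ((Scheme.ΓSpecIso A).inv h))
  have hu' : IsUnit (u (secV σ h)) := IsLocalization.map_units _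
    (⟨_, Submonoid.mem_powers _⟩ : Submonoid.powers (secV σ h))
  have hcomm : (Spec A).presheaf.map (homOfLE (le_top : E ≤ ⊤)).op ≫
      σ.appLE E (O.basicOpen (secV σ h)) hσE.ge = σ.appTop ≫ O.presheaf.map (homOfLE le_top).op := by
    simp [Scheme.Hom.appLE, Scheme.Hom.appTop, ← Functor.map_comp, ← op_comp]
  have hw : ∀ a, σ.appLE E _ hσE.ge (w a) = u (secV σ a) := fun a ↦
    congr($hcomm ((Scheme.ΓSpecIso A).inv a))
  have hfrac : ∀ z : Γ(Spec A, E), ∃ (n : ℕ) (a : A), z * w h ^ n = w a := by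
    intro z
    obtain ⟨⟨y, _, n, rfl⟩, hy⟩ := IsLocalization.surj
      (Submonoid.powers ((Scheme.ΓSpecIso A).inv h)) z
    obtain ⟨a, rfl⟩ := (ConcreteCategory.bijective_of_isIso (Scheme.ΓSpecIso A).inv).2 y
    exact ⟨n, a, by simpa [w] using hy⟩
  have hbij : Function.Bijective (σ.appLE E (O.basicOpen (secV σ h)) hσE.ge) := by
    constructor
    · rw [injective_iff_map_eq_zero]
      intro z hz
      obtain ⟨n, a, ha⟩ := hfrac z
      have e1 : u (secV σ a) = 0 := by rw [← hw, ← ha, map_mul, hz, zero_mul]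
      obtain ⟨⟨_, k, rfl⟩, hk⟩ := IsLocalization.exists_of_eq (M := Submonoid.powers (secV σ h))
        (S := Γ(O, O.basicOpen (secV σ h))) (x := secV σ a) (y := 0) (e1.trans (map_zero _).symm)
      obtain ⟨l, hl⟩ := hinj a ⟨k, hk.trans (mul_zero _)⟩
      have e4 : w h ^ l * w a = 0 := by simp only [w, ← map_pow, ← map_mul, hl, map_zero]
      rw [(hu.pow l).mul_right_eq_zero.1 e4] at ha
      exact (hu.pow n).mul_left_eq_zero.1 ha
    · intro z
      obtain ⟨⟨x, _, n, rfl⟩, hx⟩ := IsLocalization.surj (Submonoid.powers (secV σ h)) z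
      obtain ⟨m, a, e⟩ := hsurj x
      obtain ⟨v, hv⟩ := (hu.pow (n + m)).exists_right_inv
      refine ⟨w a * v, (hu'.pow (n + m)).mul_left_inj.mp ?_⟩
      have h1 : σ.appLE E _ hσE.ge v * u (secV σ h) ^ (n + m) = 1 := by
        rw [← hw, ← map_pow, ← map_mul, mul_comm, hv, map_one]
      rw [map_mul, mul_assoc, h1, mul_one, hw, e, map_mul, map_pow, pow_add, ← mul_assoc]
      rw [map_pow] at hx
      exact congrArg (· * u (secV σ h) ^ m) hx.symm
  haveI : IsAffine E.toScheme := (isAffineOpen_top (Spec A)).basicOpen _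
  haveI : IsAffine (σ ⁻¹ᵁ E).toScheme := show IsAffineOpen (σ ⁻¹ᵁ E) from hσE ▸ haff
  refine isIso_of_appTop_bijective _ ?_
  have happ : ∀ E' : (Spec A).Opens, E' = E → Function.Bijective (σ.app E') := by
    rintro _ rfl
    have h1 : σ.app E = σ.appLE E (O.basicOpen (secV σ h)) hσE.ge ≫
        O.presheaf.map (eqToHom hσE).op := by
      simp [Scheme.Hom.appLE, ← Functor.map_comp, ← op_comp]
    rw [h1]
    exact bijective_comp _ _ hbij (ConcreteCategory.bijective_of_isIso _)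
  rw [morphismRestrict_appTop]
  exact bijective_comp _ _ (happ _ (Scheme.Opens.ι_image_top E)) (ConcreteCategory.bijective_of_isIso _)

/-- Finitely many elements of `R` generate the sections over a basic open of the model. -/
theorem exists_generators {O V : Scheme.{u}} [CompactSpace O] [QuasiSeparatedSpace O] [CompactSpace V]
    {R : CommRingCat.{u}} (j₂ : V ⟶ Spec R) [IsOpenImmersion j₂] (s₀ : Set R)
    (B : O ⟶ Spec (CommRingCat.of (Subring.closure s₀))) [LocallyOfFiniteType B]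
    (θ : Γ(O, ⊤) ⟶ Γ(V, ⊤)) (hθβ₀ : ∀ a : Subring.closure s₀, θ (secV B a) = secV j₂ a.1)
    (h : Subring.closure s₀) (hh : (PrimeSpectrum.basicOpen h.1 : (Spec R).Opens) ≤ j₂.opensRange)
    (haff : IsAffineOpen (O.basicOpen (secV B h))) :
    ∃ t : Finset R, (∀ r ∈ t, secV j₂ r ∈ θ.hom.range) ∧
      ∀ x : Γ(O, ⊤), ∃ (m : ℕ) (r : R),
        r ∈ Subring.closure (s₀ ∪ t) ∧ θ (x * secV B h ^ m) = secV j₂ r := by
  classical
  let A₀ := Subring.closure s₀
  let β₀ : CommRingCat.of A₀ ⟶ Γ(O, ⊤) := secV B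
  let OD := O.basicOpen (β₀ h)
  haveI := isLocalization_top (β₀ h)
  have hft : ((Scheme.ΓSpecIso (CommRingCat.of A₀)).inv ≫ B.appLE ⊤ OD (by simp)).hom.FiniteType := by
    refine (RingHom.FiniteType.comp ?_ (RingHom.FiniteType.of_surjective _
      (ConcreteCategory.bijective_of_isIso (Scheme.ΓSpecIso (CommRingCat.of A₀)).inv).2))
    exact HasRingHomProperty.appLE (P := @LocallyOfFiniteType) B inferInstance
      ⟨⊤, isAffineOpen_top _⟩ ⟨OD, haff⟩ _
  let φ : A₀ →+* Γ(O, OD) := (algebraMap Γ(O, ⊤) Γ(O, OD)).comp β₀.hom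
  have hφ : φ.FiniteType := by
    convert hft using 1
    ext a
    simp only [φ, β₀, RingHom.comp_apply, RingHom.algebraMap_toAlgebra, Scheme.Hom.appLE]
    rfl
  algebraize [φ]
  obtain ⟨G, hG⟩ := hφ.out
  choose num hnum using fun g : Γ(O, OD) ↦ IsLocalization.surj (Submonoid.powers (β₀ h)) g
  choose n r hr using fun g : Γ(O, OD) ↦ exists_secV_eq j₂ h.1 hh (θ (num g).1)
  refine ⟨G.image r, ?_, fun x ↦ ?_⟩
  · intro a ha
    obtain ⟨g, -, rfl⟩ := Finset.mem_image.mp ha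
    exact ⟨(num g).1 * β₀ h ^ n g, by rw [map_mul, map_pow, hθβ₀, hr]⟩
  let T := Subring.closure (s₀ ∪ (G.image r : Finset R))
  have hA₀T : ∀ a : A₀, a.1 ∈ T := fun a ↦ Subring.closure_mono Set.subset_union_left a.2
  let Good : Γ(O, OD) → Prop := fun z ↦ ∃ (m : ℕ) (y : Γ(O, ⊤)) (a : R),
    a ∈ T ∧ θ y = secV j₂ a ∧ z * algebraMap _ _ (β₀ h) ^ m = algebraMap _ _ y
  have hGood : ∀ z ∈ Algebra.adjoin A₀ (G : Set Γ(O, OD)), Good z := by
    intro z hz
    induction hz using Algebra.adjoin_induction with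
    | mem g hg =>
      obtain ⟨⟨_, k, rfl⟩, hk⟩ : ∃ d : Submonoid.powers (β₀ h), d = (num g).2 := ⟨_, rfl⟩
      refine ⟨k + n g, (num g).1 * β₀ h ^ n g, r g,
        Subring.subset_closure (Or.inr (Finset.mem_image_of_mem _ hg)),
        by rw [map_mul, map_pow, hθβ₀, hr], ?_⟩
      have := hnum g
      rw [← hk] at this
      rw [map_mul, map_pow, ← this, map_pow, pow_add, mul_assoc]
    | algebraMap a => exact ⟨0, β₀ a, a.1, hA₀T a, hθβ₀ a, by simp only [pow_zero, mul_one]; rfl⟩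
    | add x y _ _ hx hy =>
      obtain ⟨m, y₁, a, ha, e₁, f₁⟩ := hx
      obtain ⟨k, y₂, c, hc, e₂, f₂⟩ := hy
      refine ⟨m + k, y₁ * β₀ h ^ k + y₂ * β₀ h ^ m, a * h.1 ^ k + c * h.1 ^ m,
        add_mem (mul_mem ha (pow_mem (hA₀T h) _)) (mul_mem hc (pow_mem (hA₀T h) _)), ?_, ?_⟩
      · rw [map_add, map_mul, map_mul, map_pow, map_pow, hθβ₀, e₁, e₂, map_add, map_mul, map_mul, map_pow, map_pow]
      · simp only [map_add, map_mul, map_pow, ← f₁, ← f₂, pow_add]; ring
    | mul x y _ _ hx hy =>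
      obtain ⟨m, y₁, a, ha, e₁, f₁⟩ := hx
      obtain ⟨k, y₂, c, hc, e₂, f₂⟩ := hy
      refine ⟨m + k, y₁ * y₂, a * c, mul_mem ha hc, by rw [map_mul, map_mul, e₁, e₂], ?_⟩
      simp only [map_mul, ← f₁, ← f₂, pow_add]; ring
  obtain ⟨m, y, a, ha, e₁, e₂⟩ := hGood (algebraMap _ _ x) (hG.ge trivial)
  rw [← map_pow, ← map_mul] at e₂
  obtain ⟨⟨_, k, rfl⟩, hk⟩ := IsLocalization.exists_of_eq (M := Submonoid.powers (β₀ h)) e₂
  refine ⟨k + m, h.1 ^ k * a, mul_mem (pow_mem (hA₀T h) _) ha, ?_⟩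
  dsimp only at hk
  show θ (x * β₀ h ^ (k + m)) = _
  rw [pow_add, ← mul_assoc, mul_comm x, mul_assoc, hk, map_mul, map_mul, map_pow, map_pow,
    hθβ₀, e₁]

theorem injective_appTop_lift (J : FGSub f) {O : J.spec.Opens}
    (hO : J.toSpec ⁻¹ᵁ O = j₁.opensRange) (v : V ⟶ O.toScheme) (hv : v ≫ O.ι = j₁ ≫ J.toSpec) :
    Function.Injective v.appTop := by
  let V' := J.toSpec ⁻¹ᵁ O
  let e : V ≅ V'.toScheme := IsOpenImmersion.isoOfRangeEq j₁ V'.ι (by
    rw [Scheme.Opens.range_ι]; exact congr(($hO : Set X₁)).symm)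
  have he : v = e.hom ≫ J.toSpec ∣_ O := by
    rw [← cancel_mono O.ι, hv, Category.assoc, morphismRestrict_ι, ← Category.assoc,
      IsOpenImmersion.isoOfRangeEq_hom_fac]
  intro x y hxy
  simp only [he, Scheme.Hom.comp_appTop, CommRingCat.comp_apply] at hxy
  have h1 := (ConcreteCategory.bijective_of_isIso e.hom.appTop).1 hxy
  rw [morphismRestrict_appTop] at h1
  simp only [CommRingCat.comp_apply] at h1
  haveI := J.isSpec.isAffineHom
  exact J.isSpec.app_injective _ ((ConcreteCategory.bijective_of_isIso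
    (X₁.presheaf.map (eqToHom (image_morphismRestrict_preimage J.toSpec O ⊤)).op)).1 h1)

theorem secV_toSpecΓ {O : Scheme.{u}} {A : CommRingCat.{u}} (β : A ⟶ Γ(O, ⊤)) :
    secV (O.toSpecΓ ≫ Spec.map β) = β := by
  simp [secV]

/-- A morphism to `Spec A` for a subring `A` of `R` whose sections extend to `O`. -/
theorem exists_lift_subring {O V : Scheme.{u}} {R : CommRingCat.{u}} (j₂ : V ⟶ Spec R)
    (v : V ⟶ O) (hθ : Function.Injective v.appTop) (A : Subring R)
    (hA : ∀ a : A, secV j₂ a.1 ∈ v.appTop.hom.range) :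
    ∃ σ : O ⟶ Spec (CommRingCat.of A), v ≫ σ = j₂ ≫ Spec.map (CommRingCat.ofHom A.subtype) ∧
      ∀ a : A, v.appTop (secV σ a) = secV j₂ a.1 := by
  choose βf hβf using hA
  let β : CommRingCat.of A ⟶ Γ(O, ⊤) := CommRingCat.ofHom
    { toFun := βf
      map_one' := hθ (by rw [hβf]; simp)
      map_zero' := hθ (by rw [hβf]; simp)
      map_mul' := fun x y ↦ hθ (by rw [hβf]; simp [hβf])
      map_add' := fun x y ↦ hθ (by rw [hβf]; simp [hβf]) }
  have hσ := secV_toSpecΓ β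
  refine ⟨O.toSpecΓ ≫ Spec.map β, ?_, fun a ↦ ?_⟩
  · refine ext_of_isAffine ((cancel_epi (Scheme.ΓSpecIso _).inv).1 ?_)
    rw [secV_comp, Scheme.Hom.comp_appTop, ← Category.assoc]
    rw [show _ ≫ Scheme.Hom.appTop (O.toSpecΓ ≫ Spec.map β) = β from hσ]
    ext a
    exact hβf a
  · rw [hσ]
    exact hβf a

/-- The criterion for the model to contain `O` as an open. -/
theorem isOpenImmersion_model {O V : Scheme.{u}} [CompactSpace O] [QuasiSeparatedSpace O]
    [CompactSpace V] {R : CommRingCat.{u}} (j₂ : V ⟶ Spec R) [IsOpenImmersion j₂] (A₀ A : Subring R)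
    (hle : A₀ ≤ A) (B : O ⟶ Spec (CommRingCat.of A₀)) (v : V ⟶ O)
    (hθ : Function.Injective v.appTop) (hθβ₀ : ∀ a : A₀, v.appTop (secV B a) = secV j₂ a.1)
    (σ : O ⟶ Spec (CommRingCat.of A)) (hσ : ∀ a : A, v.appTop (secV σ a) = secV j₂ a.1)
    {ι : Type*} (hs : ι → A₀) (W : (Spec (CommRingCat.of A₀)).Opens)
    (hWs : W = ⨆ i, PrimeSpectrum.basicOpen (hs i))
    (hψW : Spec.map (CommRingCat.ofHom A₀.subtype) ⁻¹ᵁ W = j₂.opensRange)
    (hBW : ∀ x, B x ∈ W) (haff : ∀ i, IsAffineOpen (O.basicOpen (secV B (hs i))))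
    (hgen : ∀ i, ∀ x : Γ(O, ⊤), ∃ (m : ℕ) (a : A),
      v.appTop (x * secV B (hs i) ^ m) = secV j₂ a.1) :
    ∃ _ : IsOpenImmersion σ,
      Spec.map (CommRingCat.ofHom A.subtype) ⁻¹ᵁ σ.opensRange = j₂.opensRange := by
  let π : Spec (CommRingCat.of A) ⟶ Spec (CommRingCat.of A₀) :=
    Spec.map (CommRingCat.ofHom (Subring.inclusion hle))
  have hσB : σ ≫ π = B := by
    refine ext_of_isAffine ((cancel_epi (Scheme.ΓSpecIso _).inv).1 ?_)
    rw [secV_comp]
    ext a
    exact hθ ((hσ _).trans (hθβ₀ a).symm)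
  obtain ⟨hoi, hrange⟩ := isOpenImmersion_of_isIso_restrict σ
      (fun i ↦ (Spec (CommRingCat.of A)).basicOpen
        ((Scheme.ΓSpecIso (CommRingCat.of A)).inv (Subring.inclusion hle (hs i))))
      (W := π ⁻¹ᵁ W) (fun x ↦ by
        show π (σ x) ∈ W
        rw [← Scheme.Hom.comp_apply, hσB]
        exact hBW x) (by
        rw [hWs, Scheme.Hom.preimage_iSup]
        refine iSup_congr fun i ↦ ?_
        rw [basicOpen_eq_of_affine]
        rfl) (fun i ↦ by
      have hhD : (PrimeSpectrum.basicOpen (hs i).1 : (Spec R).Opens) ≤ j₂.opensRange := by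
        rw [← hψW, hWs, Scheme.Hom.preimage_iSup]
        exact le_iSup_of_le i le_rfl
      have hβh : secV σ (Subring.inclusion hle (hs i)) = secV B (hs i) :=
        hθ ((hσ _).trans (hθβ₀ _).symm)
      refine isIso_restrict_basicOpen σ _ (by rw [hβh]; exact haff i) (fun a ⟨k, hk⟩ ↦ ?_) fun x ↦ ?_
      · rw [hβh] at hk
        have e2 : secV j₂ ((hs i).1 ^ k * a.1) = 0 := by
          have h' := congr(v.appTop $hk)
          rw [map_mul, map_pow, map_zero, hθβ₀, hσ] at h'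
          rw [map_mul, map_pow]
          exact h'
        obtain ⟨l, hl⟩ := exists_pow_mul_of_secV_eq_zero j₂ (hs i).1 hhD _ e2
        exact ⟨l + k, Subtype.ext (by
          show (hs i).1 ^ (l + k) * a.1 = 0
          rw [pow_add, mul_assoc, hl])⟩
      · obtain ⟨m, a, e⟩ := hgen i x
        exact ⟨m, a, by rw [hβh]; exact hθ ((hσ _).trans e.symm)⟩)
  refine ⟨hoi, ?_⟩
  rw [hrange, ← Scheme.Hom.comp_preimage, ← Spec.map_comp]
  exact hψW

/-- Enlarge the finitely generated model so that `O` becomes an open of it. -/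
theorem exists_model {O V : Scheme.{u}} [CompactSpace O] [QuasiSeparatedSpace O] [CompactSpace V]
    {R : CommRingCat.{u}} (j₂ : V ⟶ Spec R) [IsOpenImmersion j₂] (s₀ : Finset R)
    (B : O ⟶ Spec (CommRingCat.of (Subring.closure (s₀ : Set R)))) [LocallyOfFiniteType B]
    (v : V ⟶ O) (hθ : Function.Injective v.appTop)
    (hvB : v ≫ B = j₂ ≫ Spec.map (CommRingCat.ofHom (Subring.closure (s₀ : Set R)).subtype))
    (W : (Spec (CommRingCat.of (Subring.closure (s₀ : Set R)))).Opens)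
    (hWs : W = ⨆ h : {h : (Subring.closure (s₀ : Set R)) // h.1 ∈ s₀}, PrimeSpectrum.basicOpen h.1)
    (hψW : Spec.map (CommRingCat.ofHom (Subring.closure (s₀ : Set R)).subtype) ⁻¹ᵁ W = j₂.opensRange)
    (hBW : ∀ x, B x ∈ W)
    (haff : ∀ h : {h : (Subring.closure (s₀ : Set R)) // h.1 ∈ s₀},
      IsAffineOpen (O.basicOpen (secV B h.1))) :
    ∃ (s : Finset R) (σ : O ⟶ Spec (CommRingCat.of (Subring.closure (s : Set R))))
      (_ : IsOpenImmersion σ),
      v ≫ σ = j₂ ≫ Spec.map (CommRingCat.ofHom (Subring.closure (s : Set R)).subtype) ∧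
      Spec.map (CommRingCat.ofHom (Subring.closure (s : Set R)).subtype) ⁻¹ᵁ σ.opensRange =
        j₂.opensRange := by
  classical
  let A₀ := Subring.closure (s₀ : Set R)
  have hθβ₀ : ∀ a : A₀, v.appTop (secV B a) = secV j₂ a.1 := by
    intro a
    have : secV B ≫ v.appTop = CommRingCat.ofHom A₀.subtype ≫ secV j₂ := by
      simp only [secV, Category.assoc, ← Scheme.Hom.comp_appTop, hvB]
      exact secV_comp j₂ _
    exact congr($this a)
  choose t htθ htgen using fun h : {h : A₀ // h.1 ∈ s₀} ↦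
    exists_generators j₂ (s₀ : Set R) B v.appTop hθβ₀ h.1 (by
      rw [← hψW, hWs, Scheme.Hom.preimage_iSup]
      exact le_iSup_of_le h le_rfl) (haff h)
  haveI : Finite {h : A₀ // h.1 ∈ s₀} := Finite.of_injective
    (fun h ↦ (⟨h.1.1, h.2⟩ : s₀)) fun a b e ↦ Subtype.ext (Subtype.ext (congrArg Subtype.val e :))
  haveI := Fintype.ofFinite {h : A₀ // h.1 ∈ s₀}
  let s : Finset R := s₀ ∪ Finset.univ.biUnion t
  have hle : A₀ ≤ Subring.closure (s : Set R) := Subring.closure_mono Finset.subset_union_left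
  have hsub : Subring.closure (s : Set R) ≤ (v.appTop.hom.range).comap (secV j₂).hom := by
    rw [Subring.closure_le]
    intro x hx
    rcases Finset.mem_union.mp hx with hx | hx
    · exact ⟨secV B ⟨x, Subring.subset_closure hx⟩, hθβ₀ _⟩
    · obtain ⟨h, -, hx⟩ := Finset.mem_biUnion.mp hx
      exact htθ h x hx
  obtain ⟨σ, hvσ, hσ⟩ := exists_lift_subring j₂ v hθ (Subring.closure (s : Set R)) fun a ↦ hsub a.2
  obtain ⟨hoi, hr⟩ := isOpenImmersion_model j₂ A₀ _ hle B v hθ hθβ₀ σ hσ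
    (fun h : {h : A₀ // h.1 ∈ s₀} ↦ h.1) W hWs hψW hBW haff fun h x ↦ by
      obtain ⟨m, r, hr, e⟩ := htgen h x
      exact ⟨m, ⟨r, Subring.closure_mono (Set.union_subset
        (Finset.coe_subset.mpr Finset.subset_union_left)
        (fun a ha ↦ Finset.mem_union_right _ (Finset.mem_biUnion.mpr ⟨h, Finset.mem_univ _, ha⟩))) hr⟩, e⟩
  exact ⟨s, σ, hoi, hvσ, hr⟩

/-- **The gluing step.** -/
theorem exists_step_ring : ∃ (s : Finset R) (J : FGSub f) (O : J.spec.Opens)
    (_ : J.toSpec ⁻¹ᵁ O = j₁.opensRange)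
    (σ : O.toScheme ⟶ Spec (CommRingCat.of (Subring.closure (s : Set R))))
    (_ : IsOpenImmersion σ)
    (v : V ⟶ O.toScheme), IsCompact (O : Set J.spec) ∧ v ≫ O.ι = j₁ ≫ J.toSpec ∧
      v ≫ σ = j₂ ≫ Spec.map (CommRingCat.ofHom (Subring.closure (s : Set R)).subtype) ∧
      Spec.map (CommRingCat.ofHom (Subring.closure (s : Set R)).subtype) ⁻¹ᵁ σ.opensRange =
        j₂.opensRange := by
  classical
  obtain ⟨s₀, J, O, hO, W, hψW, hWs, b, hb, hOc, hbv⟩ := exists_stage f j₁ j₂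
  let A₀ := Subring.closure (s₀ : Set R)
  let ψ : Spec R ⟶ Spec (CommRingCat.of A₀) := Spec.map (CommRingCat.ofHom A₀.subtype)
  let B : O.toScheme ⟶ Spec (CommRingCat.of A₀) := b ≫ W.ι
  haveI : CompactSpace O.toScheme := isCompact_iff_compactSpace.mp hOc
  haveI : QuasiSeparatedSpace O.toScheme :=
    (isQuasiSeparated_iff_quasiSeparatedSpace _ O.2).mp (.of_quasiSeparatedSpace _)
  haveI : LocallyOfFiniteType (toZ J.spec) := by
    rw [← toZ_eq (J.proj ≫ toZ Y)]; infer_instance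
  haveI : LocallyOfFiniteType B := by
    haveI : LocallyOfFiniteType (B ≫ toZ (Spec (CommRingCat.of A₀))) := by
      rw [comp_toZ, ← toZ_eq (O.ι ≫ toZ J.spec)]; infer_instance
    exact locallyOfFiniteType_of_comp B (toZ _)
  let v : V ⟶ O.toScheme := IsOpenImmersion.lift O.ι (j₁ ≫ J.toSpec) (by
    rw [Scheme.Opens.range_ι]
    rintro _ ⟨x, rfl⟩
    exact hO.ge (show j₁ x ∈ j₁.opensRange from ⟨x, rfl⟩))
  have hv : v ≫ O.ι = j₁ ≫ J.toSpec := IsOpenImmersion.lift_fac _ _ _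
  have hvB : v ≫ B = j₂ ≫ ψ := hbv v hv
  -- `Γ(O) → Γ(V)` is injective
  obtain ⟨s, σ, hoi, hvσ, hrange⟩ := exists_model j₂ s₀ B v (injective_appTop_lift f j₁ J hO v hv)
    hvB W hWs hψW (fun x ↦ (b x).2) (fun h ↦ by
      rw [basicOpen_secV, Scheme.Hom.comp_preimage]
      refine IsAffineOpen.preimage ?_ b
      exact (hA_basicOpen h.1).preimage_of_isOpenImmersion W.ι (by
        rw [Scheme.Opens.opensRange_ι, hWs]
        exact le_iSup_of_le h le_rfl))
  exact ⟨s, J, O, hO, σ, hoi, v, hOc, hv, hvσ, hrange⟩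

end Groth.Agent.H7Lim.Approx
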