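import Groth.Agent.H7Lim.Approx.OverSystem
import Groth.Agent.H7Lim.Sections
import Groth.Agent.H7Lim.IdealSystem

/-!
# Closed immersions into a stage and consequences of relative approximation
-/

set_option autoImplicit false
set_option backward.isDefEq.respectTransparency false
set_option backward.defeqAttrib.useBackward true
set_option linter.style.haveILetI false
set_option linter.unusedSectionVars false

universe u

open AlgebraicGeometry CategoryTheory CategoryTheory.Limits Opposite TopologicalSpace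
open AlgebraicGeometry.Scheme

namespace Groth.Agent.H7Lim.Approx

variable {I : Type u} [SmallCategory I] [IsCofiltered I] {S : Scheme.{u}}
  {D : I ⥤ Over S} {c : Cone D}

theorem nonempty_isLimit_forget (hc : IsLimit c) : Nonempty (IsLimit ((Over.forget S).mapCone c)) :=
  haveI : IsConnected I := IsCofiltered.isConnected _
  ⟨isLimitOfPreserves (Over.forget S) hc⟩

/-- A closed subscheme of the limit which is of finite type over the base embeds into some stage. -/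
theorem exists_isClosedImmersion_stage (hc : IsLimit c)
    [∀ (i j : I) (f : i ⟶ j), IsAffineHom (D.map f).left] [∀ i, CompactSpace (D.obj i).left]
    {Y : Scheme.{u}} (h : Y ⟶ c.pt.left) [IsClosedImmersion h] [LocallyOfFiniteType (h ≫ c.pt.hom)]
    (i₀ : I) : ∃ (i : I) (_ : i ⟶ i₀), IsClosedImmersion (h ≫ (c.π.app i).left) := by
  classical
  obtain ⟨hc'⟩ := nonempty_isLimit_forget hc
  let E := D ⋙ Over.forget S
  let cE : Cone E := (Over.forget S).mapCone c
  haveI : ∀ (i j : I) (f : i ⟶ j), IsAffineHom (E.map f) := fun i j f ↦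
    inferInstanceAs (IsAffineHom (D.map f).left)
  haveI : ∀ i, CompactSpace (E.obj i) := fun i ↦ inferInstanceAs (CompactSpace (D.obj i).left)
  haveI hπ : ∀ i, IsAffineHom (cE.π.app i) := fun i ↦ isAffineHom_π_app E cE hc' i
  -- adapted affine opens of the stage `i₀`
  let P := {W : (E.obj i₀).affineOpens // ∃ V : S.affineOpens, W.1 ≤ (D.obj i₀).hom ⁻¹ᵁ V.1}
  obtain ⟨T, hT⟩ := isCompact_univ.elim_finite_subcover
    (fun W : P ↦ ((W.1.1 : (E.obj i₀).Opens) : Set (E.obj i₀))) (fun W ↦ W.1.1.2) (fun x _ ↦ by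
      obtain ⟨V, hV, hxV, -⟩ := exists_isAffineOpen_mem_and_subset
        (Set.mem_univ ((D.obj i₀).hom x)) (U := (⊤ : S.Opens))
      obtain ⟨W, hW, hxW, hWV⟩ := exists_isAffineOpen_mem_and_subset (x := x)
        (U := (D.obj i₀).hom ⁻¹ᵁ V) hxV
      exact Set.mem_iUnion.mpr ⟨⟨⟨W, hW⟩, ⟨V, hV⟩, hWV⟩, hxW⟩)
  let ρ := fun (k : I) ↦ h ≫ cE.π.app k
  obtain ⟨k, φ, hk⟩ := exists_common_stage i₀
    (fun (W : T) k φ ↦ Function.Surjective
      ((ρ k).app (E.map φ ⁻¹ᵁ W.1.1.1)))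
    (fun W ↦ by
      obtain ⟨V, hWV⟩ := W.1.2
      let W₀ := W.1.1.1
      let Z := cE.π.app i₀ ⁻¹ᵁ W₀
      have hZ : IsAffineOpen Z := W.1.1.2.preimage _
      have hZV : h ⁻¹ᵁ Z ≤ (h ≫ c.pt.hom) ⁻¹ᵁ V.1 := by
        have hw : (c.π.app i₀).left ≫ (D.obj i₀).hom = c.pt.hom := Over.w _
        rw [Scheme.Hom.comp_preimage, ← hw, Scheme.Hom.comp_preimage]
        exact h.preimage_mono ((cE.π.app i₀).preimage_mono hWV)
      have hYZ : IsAffineOpen (h ⁻¹ᵁ Z) := hZ.preimage h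
      have hft : ((h ≫ c.pt.hom).appLE V.1 (h ⁻¹ᵁ Z) hZV).hom.FiniteType :=
        HasRingHomProperty.appLE (P := @LocallyOfFiniteType) (h ≫ c.pt.hom) inferInstance V
          ⟨_, hYZ⟩ hZV
      letI := ((h ≫ c.pt.hom).appLE V.1 (h ⁻¹ᵁ Z) hZV).hom.toAlgebra
      obtain ⟨G, hG⟩ := hft.out
      choose z hz using fun g : G ↦ h.app_surjective Z hZ g.1
      obtain ⟨k, φ, t, ht⟩ := exists_secπ_eq_finite hc' W.1.1.2 z
      refine ⟨k, φ, fun y ↦ ?_⟩
      let Wk := E.map φ ⁻¹ᵁ W₀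
      have hYk : h ⁻¹ᵁ Z = ρ k ⁻¹ᵁ Wk := by
        simp only [ρ, Wk, Z, ← Scheme.Hom.comp_preimage, Category.assoc, cE.w φ]
      have hVk : Wk ≤ (D.obj k).hom ⁻¹ᵁ V.1 := by
        rw [← Over.w (D.map φ), Scheme.Hom.comp_preimage]
        exact (E.map φ).preimage_mono hWV
      let m := (ρ k).appLE Wk (h ⁻¹ᵁ Z) hYk.le
      have key : ∀ x : Γ(Y, h ⁻¹ᵁ Z), ∃ s, m s = x := by
        intro x
        have hx : x ∈ Algebra.adjoin Γ(S, V.1) (G : Set Γ(Y, h ⁻¹ᵁ Z)) := hG.ge trivial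
        induction hx using Algebra.adjoin_induction with
        | mem g hg =>
          refine ⟨t ⟨g, hg⟩, ?_⟩
          have := congr(h.app Z $(ht ⟨g, hg⟩))
          rw [hz] at this
          dsimp only at this
          refine Eq.trans ?_ this
          have h1 : secπ (c := cE) φ W₀ ≫ h.app Z = m := by
            simp only [secπ, Scheme.Hom.app_eq_appLE]
            exact Scheme.Hom.appLE_comp_appLE ..
          exact congr($h1 (t ⟨g, hg⟩)).symm
        | algebraMap a =>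
          refine ⟨(D.obj k).hom.appLE V.1 Wk hVk a, ?_⟩
          have e : (h ≫ cE.π.app k) ≫ (D.obj k).hom = h ≫ c.pt.hom := by
            rw [Category.assoc]; exact congrArg (h ≫ ·) (Over.w (c.π.app k))
          have h1 : (D.obj k).hom.appLE V.1 Wk hVk ≫ m = (h ≫ c.pt.hom).appLE V.1 (h ⁻¹ᵁ Z) hZV := by
            simp only [m, ρ, Scheme.Hom.appLE_comp_appLE]
            exact appLE_congr' e _ _
          exact congr($h1 a)
        | add a b _ _ ha hb =>
          obtain ⟨p, rfl⟩ := ha; obtain ⟨q, rfl⟩ := hb; exact ⟨p + q, map_add _ _ _⟩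
        | mul a b _ _ ha hb =>
          obtain ⟨p, rfl⟩ := ha; obtain ⟨q, rfl⟩ := hb; exact ⟨p * q, map_mul _ _ _⟩
      obtain ⟨s, hs⟩ := key (Y.presheaf.map (eqToHom hYk).op y)
      refine ⟨s, ?_⟩
      have := congr(Y.presheaf.map (eqToHom hYk.symm).op $hs)
      simp only [m, ← CommRingCat.comp_apply, Scheme.Hom.appLE_map, ← Functor.map_comp, ← op_comp,
        eqToHom_trans, eqToHom_refl, op_id, CategoryTheory.Functor.map_id] at this
      rw [Scheme.Hom.app_eq_appLE]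
      exact this)
    (fun W j j' φ ψ hj ↦ by
      intro y
      have e : ρ j ⁻¹ᵁ (E.map φ ⁻¹ᵁ W.1.1.1) = ρ j' ⁻¹ᵁ (E.map (ψ ≫ φ) ⁻¹ᵁ W.1.1.1) := by
        simp only [ρ, ← Scheme.Hom.comp_preimage, Category.assoc, cE.w φ, cE.w (ψ ≫ φ)]
      obtain ⟨s, hs⟩ := hj (Y.presheaf.map (eqToHom e).op y)
      refine ⟨(E.map ψ).appLE _ _ (map_preimage_le φ ψ _) s, ?_⟩
      have := congr(Y.presheaf.map (eqToHom e.symm).op $hs)
      simp only [← CommRingCat.comp_apply, ← Functor.map_comp, ← op_comp, eqToHom_trans, eqToHom_refl,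
        op_id, CategoryTheory.Functor.map_id, Scheme.Hom.app_eq_appLE, Scheme.Hom.appLE_map,
        Scheme.Hom.appLE_comp_appLE] at this ⊢
      rw [CommRingCat.id_apply] at this
      refine Eq.trans ?_ this
      exact congr($(appLE_congr' (show ρ j' ≫ E.map ψ = ρ j by simp [ρ, cE.w ψ]) _ _) s))
  refine ⟨k, φ, ?_⟩
  show IsClosedImmersion (ρ k)
  haveI : IsAffineHom (ρ k) := inferInstanceAs (IsAffineHom (h ≫ cE.π.app k))
  refine IsZariskiLocalAtTarget.of_iSup_eq_top (P := @IsClosedImmersion)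
    (fun W : T ↦ E.map φ ⁻¹ᵁ W.1.1.1) ?_ fun W ↦ ?_
  · rw [← Scheme.Hom.preimage_iSup, ← top_le_iff]
    intro x _
    obtain ⟨W, hW, hx⟩ := Set.mem_iUnion₂.mp (hT (Set.mem_univ (E.map φ x)))
    exact Opens.mem_iSup.mpr ⟨⟨W, hW⟩, hx⟩
  · have hWk : IsAffineOpen (E.map φ ⁻¹ᵁ W.1.1.1) := W.1.1.2.preimage _
    haveI : IsAffine (E.map φ ⁻¹ᵁ W.1.1.1 : (E.obj k).Opens).toScheme := hWk
    haveI : IsAffine (ρ k ⁻¹ᵁ (E.map φ ⁻¹ᵁ W.1.1.1) : Y.Opens).toScheme := hWk.preimage _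
    refine IsClosedImmersion.of_surjective_of_isAffine _ ?_
    rw [morphismRestrict_appTop]
    have happ : ∀ U', U' = E.map φ ⁻¹ᵁ W.1.1.1 → Function.Surjective ((ρ k).app U') := by
      rintro _ rfl; exact hk W
    intro y
    obtain ⟨y', rfl⟩ := (ConcreteCategory.bijective_of_isIso (Y.presheaf.map (eqToHom
      (image_morphismRestrict_preimage (ρ k) (E.map φ ⁻¹ᵁ W.1.1.1) ⊤)).op)).2 y
    obtain ⟨x, rfl⟩ := happ _ (Scheme.Opens.ι_image_top _) y'
    exact ⟨x, rfl⟩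
where
  appLE_congr' {A B : Scheme.{u}} {g g' : A ⟶ B} (e : g = g') {U : B.Opens} {V : A.Opens}
      (h₁ : V ≤ g ⁻¹ᵁ U) (h₂ : V ≤ g' ⁻¹ᵁ U) : g.appLE U V h₁ = g'.appLE U V h₂ := by
    subst e; rfl

end Groth.Agent.H7Lim.Approx
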