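import Groth.Agent.H7Lim.Approx.AffineSpecExists
import Mathlib.AlgebraicGeometry.AffineTransitionLimit
import Mathlib.Algebra.Category.Ring.FilteredColimits
import Mathlib.CategoryTheory.Filtered.Final

/-!
# Existence of cofiltered limits of schemes with affine transition morphisms
-/

set_option autoImplicit false
set_option backward.isDefEq.respectTransparency false
set_option backward.defeqAttrib.useBackward true
set_option linter.style.haveILetI false
set_option linter.unusedSectionVars false

universe u

open AlgebraicGeometry CategoryTheory CategoryTheory.Limits Opposite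
open AlgebraicGeometry.Scheme

namespace Groth.Agent.H7Lim.Approx

variable {J : Type u} [SmallCategory J] [IsCofiltered J] {Y : Scheme.{u}} (D : J ⥤ Over Y)
  [∀ j, IsAffineHom (D.obj j).hom]

theorem preimage_map_le {j k : J} (a : j ⟶ k) (U : Y.Opens) :
    (D.obj j).hom ⁻¹ᵁ U ≤ (D.map a).left ⁻¹ᵁ ((D.obj k).hom ⁻¹ᵁ U) :=
  preimage_le (D.obj k).hom (D.obj j).hom (Over.w (D.map a)) U

theorem appLE_congr_left {A B : Scheme.{u}} {g g' : A ⟶ B} (e : g = g') {U : B.Opens} {V : A.Opens}
    (h₁ : V ≤ g ⁻¹ᵁ U) (h₂ : V ≤ g' ⁻¹ᵁ U) : g.appLE U V h₁ = g'.appLE U V h₂ := by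
  subst e; rfl

/-- The direct system of sections over an open of the base. -/
noncomputable def secDiag (U : Y.Opens) : Jᵒᵖ ⥤ CommRingCat.{u} where
  obj j := Γ((D.obj j.unop).left, (D.obj j.unop).hom ⁻¹ᵁ U)
  map {j k} a := (D.map a.unop).left.appLE _ _ (preimage_map_le D a.unop U)
  map_id j := by
    refine (appLE_congr_left (g' := 𝟙 _) (by simp) _ le_rfl).trans ?_
    simp [Scheme.Hom.appLE]
  map_comp {j k l} a b := by
    rw [Scheme.Hom.appLE_comp_appLE]
    exact appLE_congr_left (by simp) _ _

/-- Restriction of the direct systems. -/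
noncomputable def secRes {U V : Y.Opens} (h : U ≤ V) : secDiag D V ⟶ secDiag D U where
  app j := (D.obj j.unop).left.presheaf.map (homOfLE ((D.obj j.unop).hom.preimage_mono h)).op
  naturality j k a := by
    show (D.map a.unop).left.appLE _ _ _ ≫ _ = _ ≫ (D.map a.unop).left.appLE _ _ _
    rw [Scheme.Hom.appLE_map, Scheme.Hom.map_appLE]

theorem secRes_refl (U : Y.Opens) : secRes D (le_refl U) = 𝟙 _ := by
  ext j : 2
  show (D.obj j.unop).left.presheaf.map _ = _
  rw [Subsingleton.elim (homOfLE _) (𝟙 _), op_id, CategoryTheory.Functor.map_id]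
  rfl

theorem secRes_comp {U V W : Y.Opens} (h : U ≤ V) (h' : V ≤ W) :
    secRes D h' ≫ secRes D h = secRes D (h.trans h') := by
  ext j : 2
  show (D.obj j.unop).left.presheaf.map _ ≫ (D.obj j.unop).left.presheaf.map _ = _
  rw [← Functor.map_comp]
  rfl

/-- The presheaf of colimits. -/
noncomputable def colimPresheaf : Y.AffineZariskiSiteᵒᵖ ⥤ CommRingCat.{u} where
  obj U := colimit (secDiag D U.unop.1)
  map {U V} i := colimMap (secRes D (AffineZariskiSite.toOpens_mono i.unop.le))
  map_id U := by
    apply colimit.hom_ext; intro j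
    simp [secRes_refl]
  map_comp {U V W} a b := by
    apply colimit.hom_ext; intro j
    rw [ι_colimMap, ← Category.assoc, ι_colimMap, Category.assoc, ι_colimMap, ← Category.assoc,
      ← secRes_comp D (AffineZariskiSite.toOpens_mono b.unop.le) (AffineZariskiSite.toOpens_mono a.unop.le)]
    rfl

/-- The structure map into stage `j`. -/
noncomputable def strAt (U : Y.Opens) (j : Jᵒᵖ) : Γ(Y, U) ⟶ colimit (secDiag D U) :=
  (D.obj j.unop).hom.app U ≫ colimit.ι (secDiag D U) j

theorem strAt_map (U : Y.Opens) {j k : Jᵒᵖ} (a : j ⟶ k) : strAt D U j = strAt D U k := by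
  rw [strAt, strAt, ← colimit.w (secDiag D U) a, ← Category.assoc]
  congr 1
  show _ ≫ (D.map a.unop).left.appLE _ _ _ = _
  rw [Scheme.Hom.app_eq_appLE, Scheme.Hom.app_eq_appLE, Scheme.Hom.appLE_comp_appLE]
  exact appLE_congr_left (Over.w (D.map a.unop)) _ _

theorem strAt_eq (U : Y.Opens) (j k : Jᵒᵖ) : strAt D U j = strAt D U k := by
  obtain ⟨l, a, b, -⟩ := IsFilteredOrEmpty.cocone_objs j k
  rw [strAt_map D U a, strAt_map D U b]

/-- The structure map of the presheaf of colimits. -/
noncomputable def colimStr :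
    (AffineZariskiSite.toOpensFunctor Y).op ⋙ Y.presheaf ⟶ colimPresheaf D where
  app U := strAt D U.unop.1 (op IsCofiltered.nonempty.some)
  naturality {U V} i := by
    show Y.presheaf.map _ ≫ strAt D V.unop.1 _ = strAt D U.unop.1 _ ≫ colimMap _
    rw [strAt, strAt, Category.assoc, ι_colimMap, ← Category.assoc, ← Category.assoc]
    exact congrArg (· ≫ _) (Scheme.Hom.naturality _ _)

theorem coequifibered_colimStr : (colimStr D).Coequifibered := by
  refine AffineZariskiSite.coequifibered_iff_forall_isLocalizationAway.mpr fun U r ↦ ?_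
  let Ur := Y.basicOpen r
  have hle : Ur ≤ U.1 := Y.basicOpen_le r
  letI : Algebra (colimit (secDiag D U.1) : CommRingCat.{u}) (colimit (secDiag D Ur) : CommRingCat.{u}) :=
    (colimMap (secRes D hle)).hom.toAlgebra
  let rC := strAt D U.1 (op IsCofiltered.nonempty.some) r
  show IsLocalization.Away rC (colimit (secDiag D Ur) : CommRingCat.{u})
  have hres : ∀ (j : Jᵒᵖ) (z : (secDiag D U.1).obj j),
      colimMap (secRes D hle) (colimit.ι (secDiag D U.1) j z) =
        colimit.ι (secDiag D Ur) j ((secRes D hle).app j z) := fun j z ↦ by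
    rw [← CommRingCat.comp_apply, ι_colimMap]; rfl
  have hrC : ∀ j, rC = colimit.ι (secDiag D U.1) j ((D.obj j.unop).hom.app U.1 r) := fun j ↦ by
    show strAt D U.1 _ r = _
    rw [strAt_eq D U.1 _ j]; rfl
  have hloc : ∀ j : Jᵒᵖ, IsLocalization.Away ((D.obj j.unop).hom.app U.1 r)
      Γ((D.obj j.unop).left, (D.obj j.unop).left.basicOpen ((D.obj j.unop).hom.app U.1 r)) :=
    fun j ↦ (U.2.preimage (D.obj j.unop).hom).isLocalization_basicOpen _
  have he : ∀ j : Jᵒᵖ, (D.obj j.unop).hom ⁻¹ᵁ Ur =
      (D.obj j.unop).left.basicOpen ((D.obj j.unop).hom.app U.1 r) := fun j ↦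
    (D.obj j.unop).hom.preimage_basicOpen r
  refine IsLocalization.Away.mk rC ?_ (fun y ↦ ?_) fun a b hab ↦ ?_
  · have h1 : IsUnit (strAt D Ur (op IsCofiltered.nonempty.some)
        (Y.presheaf.map (homOfLE hle).op r)) :=
      (RingedSpace.isUnit_res_basicOpen _ r).map (strAt D Ur (op IsCofiltered.nonempty.some)).hom
    have e : strAt D U.1 (op IsCofiltered.nonempty.some) ≫ colimMap (secRes D hle) =
        Y.presheaf.map (homOfLE hle).op ≫ strAt D Ur (op IsCofiltered.nonempty.some) := by
      rw [strAt, strAt, Category.assoc, ι_colimMap, ← Category.assoc, ← Category.assoc]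
      exact congrArg (· ≫ _) (Scheme.Hom.naturality _ _).symm
    convert h1 using 1
    exact congr($e r)
  · obtain ⟨j, z, rfl⟩ := Concrete.colimit_exists_rep (secDiag D Ur) y
    haveI := hloc j
    obtain ⟨⟨w, _, n, rfl⟩, hw⟩ := IsLocalization.surj
      (Submonoid.powers ((D.obj j.unop).hom.app U.1 r))
      ((D.obj j.unop).left.presheaf.map (eqToHom (he j).symm).op z)
    refine ⟨n, colimit.ι (secDiag D U.1) j w, ?_⟩
    show colimit.ι (secDiag D Ur) j z * colimMap (secRes D hle) rC ^ n = colimMap (secRes D hle) _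
    rw [hrC j, hres, hres, ← map_pow, ← map_mul]
    congr 1
    have h1 := congr((D.obj j.unop).left.presheaf.map (eqToHom (he j)).op $hw)
    simp only [map_mul, RingHom.algebraMap_toAlgebra, map_pow, ← CommRingCat.comp_apply,
      ← Functor.map_comp, ← op_comp, eqToHom_trans, eqToHom_refl, op_id,
      CategoryTheory.Functor.map_id, CommRingCat.id_apply, Category.assoc] at h1
    simp only [secRes, ← CommRingCat.comp_apply]
    exact h1
  · replace hab : colimMap (secRes D hle) a = colimMap (secRes D hle) b := hab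
    obtain ⟨j, a, rfl⟩ := Concrete.colimit_exists_rep (secDiag D U.1) a
    obtain ⟨j', b, rfl⟩ := Concrete.colimit_exists_rep (secDiag D U.1) b
    rw [hres, hres] at hab
    obtain ⟨k, α, β, hk⟩ := (Concrete.colimit_rep_eq_iff_exists (secDiag D Ur) _ _).1 hab
    have hk' : (secRes D hle).app k ((secDiag D U.1).map α a) =
        (secRes D hle).app k ((secDiag D U.1).map β b) := by
      rw [← CommRingCat.comp_apply, ← CommRingCat.comp_apply, (secRes D hle).naturality,
        (secRes D hle).naturality]
      exact hk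
    haveI := hloc k
    obtain ⟨⟨_, n, rfl⟩, hn⟩ := IsLocalization.exists_of_eq
      (M := Submonoid.powers ((D.obj k.unop).hom.app U.1 r))
      (S := Γ((D.obj k.unop).left, (D.obj k.unop).left.basicOpen ((D.obj k.unop).hom.app U.1 r)))
      (x := (secDiag D U.1).map α a) (y := (secDiag D U.1).map β b) (by
        have := congr((D.obj k.unop).left.presheaf.map (eqToHom (he k).symm).op $hk')
        have e : ∀ z, (D.obj k.unop).left.presheaf.map (eqToHom (he k).symm).op
            ((secRes D hle).app k z) = algebraMap Γ((D.obj k.unop).left, (D.obj k.unop).hom ⁻¹ᵁ U.1)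
              Γ((D.obj k.unop).left, (D.obj k.unop).left.basicOpen ((D.obj k.unop).hom.app U.1 r)) z := by
          intro z
          simp only [secRes]
          erw [← CommRingCat.comp_apply, ← Functor.map_comp]
          rfl
        rw [e, e] at this
        exact this)
    refine ⟨n, ?_⟩
    show rC ^ n * _ = rC ^ n * _
    rw [hrC k, ← colimit.w (secDiag D U.1) α, ← colimit.w (secDiag D U.1) β, CommRingCat.comp_apply,
      CommRingCat.comp_apply, ← map_pow, ← map_mul, ← map_mul]
    exact congrArg _ hn

theorem exists_isLimit_over : ∃ c : Cone (D ⋙ Over.forget Y), Nonempty (IsLimit c) := by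
  obtain ⟨P, p, hp, ε, hε, hεY, hεr⟩ := exists_affine_of_coequifibered (coequifibered_colimStr D)
  have hεY' : ∀ (U : Y.affineOpens) (j : Jᵒᵖ), p.app U.1 ≫ ε U = strAt D U.1 j := fun U j ↦
    (hεY U).trans (strAt_eq D U.1 _ j)
  have key : ∀ j : J, ∃ (g : P ⟶ (D.obj j).left) (h : g ≫ (D.obj j).hom = p),
      ∀ U : Y.affineOpens, g.appLE ((D.obj j).hom ⁻¹ᵁ U.1) (p ⁻¹ᵁ U.1)
        (preimage_le (D.obj j).hom p h _) =
          colimit.ι (secDiag D U.1) (op j) ≫ (@asIso _ _ _ _ (ε U) (hε U)).inv := fun j ↦
    exists_hom_of_app (D.obj j).hom p _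
      (fun U ↦ by
        haveI := hε U
        rw [← Category.assoc, Iso.comp_inv_eq, asIso_hom, hεY' U (op j)]
        rfl)
      (fun U r ↦ by
        haveI := hε U
        haveI := hε ⟨Y.basicOpen r, U.2.basicOpen r⟩
        rw [← Category.assoc ((D.obj j).left.presheaf.map _), Iso.eq_comp_inv, asIso_hom,
          Category.assoc, Category.assoc]
        erw [hεr U r]
        erw [(asIso (ε U)).inv_hom_id_assoc]
        exact ι_colimMap (secRes D (Y.basicOpen_le r)) (op j))
  choose π hπ hπU using key
  refine ⟨⟨P, ⟨π, fun j k a ↦ ?_⟩⟩, ⟨?_⟩⟩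
  · show 𝟙 P ≫ π k = π j ≫ (D.map a).left
    rw [Category.id_comp]
    refine hom_ext_app (D.obj k).hom p (hπ k) (by rw [Category.assoc, Over.w (D.map a)]; exact hπ j)
      fun U ↦ ?_
    rw [← Scheme.Hom.appLE_comp_appLE (π j) (D.map a).left _ _ _ (preimage_map_le D a U.1)
      (preimage_le _ p (hπ j) _), hπU j U, hπU k U, ← Category.assoc]
    exact congrArg (· ≫ _) (colimit.w (secDiag D U.1) a.op).symm
  · have hq : ∀ (s : Cone (D ⋙ Over.forget Y)) (j : J), s.π.app j ≫ (D.obj j).hom =
        s.π.app IsCofiltered.nonempty.some ≫ (D.obj IsCofiltered.nonempty.some).hom := by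
      intro s j
      obtain ⟨l, a, b, -⟩ := IsCofilteredOrEmpty.cone_objs j IsCofiltered.nonempty.some
      rw [← s.w a, ← s.w b, Category.assoc, Category.assoc]
      congr 1
      exact (Over.w (D.map a)).trans (Over.w (D.map b)).symm
    let q := fun (s : Cone (D ⋙ Over.forget Y)) ↦
      s.π.app IsCofiltered.nonempty.some ≫ (D.obj IsCofiltered.nonempty.some).hom
    let desc := fun (s : Cone (D ⋙ Over.forget Y)) (U : Y.affineOpens) ↦
      colimit.desc (secDiag D U.1)
        { pt := Γ(s.pt, q s ⁻¹ᵁ U.1)
          ι :=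
            { app := fun j ↦ (s.π.app j.unop).appLE _ _
                (preimage_le (D.obj j.unop).hom (q s) (hq s j.unop) _)
              naturality := fun j k a ↦ by
                show (D.map a.unop).left.appLE _ _ _ ≫ (s.π.app k.unop).appLE _ _ _ = _ ≫ 𝟙 _
                rw [Scheme.Hom.appLE_comp_appLE, Category.comp_id]
                exact appLE_congr_left (s.w a.unop) _ _ } }
    have lift : ∀ s : Cone (D ⋙ Over.forget Y), ∃ (g : s.pt ⟶ P) (h : g ≫ p = q s),
        ∀ U : Y.affineOpens, g.appLE (p ⁻¹ᵁ U.1) (q s ⁻¹ᵁ U.1) (preimage_le p (q s) h _) =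
          ε U ≫ desc s U := fun s ↦
      exists_hom_of_app p (q s) (fun U ↦ ε U ≫ desc s U) (fun U ↦ by
          rw [← Category.assoc, hεY' U (op IsCofiltered.nonempty.some), strAt, Category.assoc]
          simp only [desc, colimit.ι_desc]
          rw [Scheme.Hom.app_eq_appLE, Scheme.Hom.appLE_comp_appLE, Scheme.Hom.app_eq_appLE])
        (fun U r ↦ by
          rw [Category.assoc]
          erw [reassoc_of% (hεr U r)]
          congr 1
          apply colimit.hom_ext
          intro j
          erw [reassoc_of% (ι_colimMap (secRes D (Y.basicOpen_le r)) j)]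
          simp only [desc, colimit.ι_desc, colimit.ι_desc_assoc, secRes]
          erw [Scheme.Hom.appLE_map, Scheme.Hom.map_appLE])
    choose L hL hLU using lift
    exact
      { lift := L
        fac := fun s j ↦ by
          refine hom_ext_app (D.obj j).hom (q s) (by rw [Category.assoc, hπ, hL]) (hq s j) fun U ↦ ?_
          haveI := hε U
          rw [← Scheme.Hom.appLE_comp_appLE (L s) (π j) _ _ _ (preimage_le _ p (hπ j) _)
            (preimage_le p (q s) (hL s) _), hπU j U, hLU s U, Category.assoc]
          erw [(asIso (ε U)).inv_hom_id_assoc]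
          simp only [desc, colimit.ι_desc]
        uniq := fun s m hm ↦ by
          have hmp : m ≫ p = q s := by
            calc m ≫ p = m ≫ π IsCofiltered.nonempty.some ≫ (D.obj IsCofiltered.nonempty.some).hom := by
                  rw [hπ]
              _ = q s := by rw [← Category.assoc, hm]
          refine hom_ext_app p (q s) hmp (hL s) fun U ↦ ?_
          haveI := hε U
          rw [hLU s U, ← cancel_epi (asIso (ε U)).inv]
          erw [(asIso (ε U)).inv_hom_id_assoc]
          apply colimit.hom_ext
          intro j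
          rw [← Category.assoc, ← hπU j.unop U,
            Scheme.Hom.appLE_comp_appLE]
          simp only [desc, colimit.ι_desc]
          exact appLE_congr_left (hm j.unop) _ _ }

/-- **Cofiltered limits with affine transition maps exist.** -/
theorem exists_isLimit_affine {I : Type u} [SmallCategory I] [IsCofiltered I] (E : I ⥤ Scheme.{u})
    [∀ (i j : I) (f : i ⟶ j), IsAffineHom (E.map f)] :
    ∃ (c : Cone E) (_ : IsLimit c), ∀ i, IsAffineHom (c.π.app i) := by
  let i₀ : I := IsCofiltered.nonempty.some
  let D' : Over i₀ ⥤ Over (E.obj i₀) := Over.post E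
  haveI : ∀ j, IsAffineHom (D'.obj j).hom := fun j ↦ inferInstanceAs (IsAffineHom (E.map j.hom))
  obtain ⟨c, ⟨hc⟩⟩ := exists_isLimit_over D'
  haveI : HasLimit (Over.forget i₀ ⋙ E) := ⟨⟨⟨c, hc⟩⟩⟩
  haveI : HasLimit E := Functor.Initial.hasLimit_of_comp (Over.forget i₀)
  exact ⟨limit.cone E, limit.isLimit E, fun i ↦ isAffineHom_π_app E (limit.cone E) (limit.isLimit E) i⟩

end Groth.Agent.H7Lim.Approx
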