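import Groth.Agent.H7Lim.Approx.SubSpec

/-!
# An affine scheme over a qcqs base is the limit of affine schemes of finite type
-/

set_option autoImplicit false
set_option backward.isDefEq.respectTransparency false
set_option linter.style.haveILetI false
set_option linter.unusedSectionVars false

universe u

open AlgebraicGeometry CategoryTheory CategoryTheory.Limits Opposite TopologicalSpace
open AlgebraicGeometry.Scheme

namespace Groth.Agent.H7Lim.Approx

variable {X Y : Scheme.{u}} (f : X ⟶ Y)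

/-- Finite type quasi-coherent subalgebras of `f_* 𝒪_X`. -/
abbrev FGSub : Type u := {J : Sub f // ∀ U, J.FGAt U}

instance : Nonempty (FGSub f) := ⟨⟨Sub.bot f, Sub.bot_fgAt⟩⟩

instance : IsDirected (FGSub f) (fun a b ↦ a ≤ b) :=
  ⟨fun a b ↦ ⟨⟨a.1.sup b.1, fun U ↦ Sub.sup_fgAt (a.2 U) (b.2 U)⟩, a.1.le_sup_left' b.1,
    a.1.le_sup_right' b.1⟩⟩

theorem exists_ge (a b : FGSub f) : ∃ c, a ≤ c ∧ b ≤ c :=
  ⟨⟨a.1.sup b.1, fun U ↦ Sub.sup_fgAt (a.2 U) (b.2 U)⟩, a.1.le_sup_left' b.1, a.1.le_sup_right' b.1⟩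

variable [QuasiCompact f] [QuasiSeparated f]

namespace FGSub

variable {f} (J : FGSub f)

/-- The spectrum. -/
noncomputable def spec : Scheme.{u} := J.1.exists_isSpec.choose

/-- Its structure map. -/
noncomputable def proj : J.spec ⟶ Y := J.1.exists_isSpec.choose_spec.choose

/-- The map from `X`. -/
noncomputable def toSpec : X ⟶ J.spec := J.1.exists_isSpec.choose_spec.choose_spec.choose

theorem isSpec : J.1.IsSpec J.proj J.toSpec :=
  J.1.exists_isSpec.choose_spec.choose_spec.choose_spec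

instance : IsAffineHom J.proj := J.isSpec.isAffineHom

instance : LocallyOfFiniteType J.proj := J.isSpec.locallyOfFiniteType J.2

@[reassoc (attr := simp)]
theorem toSpec_proj : J.toSpec ≫ J.proj = f := J.isSpec.fac

variable {J}

theorem exists_map {K : FGSub f} (h : J ≤ K) :
    ∃ g : K.spec ⟶ J.spec, g ≫ J.proj = K.proj ∧ K.toSpec ≫ g = J.toSpec :=
  K.isSpec.exists_hom J.proj J.toSpec J.toSpec_proj
    fun U ↦ (J.isSpec.range_eq U).le.trans (h U)

/-- Transition maps. -/
noncomputable def map {K : FGSub f} (h : J ≤ K) : K.spec ⟶ J.spec := (exists_map h).choose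

@[reassoc (attr := simp)]
theorem map_proj {K : FGSub f} (h : J ≤ K) : map h ≫ J.proj = K.proj := (exists_map h).choose_spec.1

@[reassoc (attr := simp)]
theorem toSpec_map {K : FGSub f} (h : J ≤ K) : K.toSpec ≫ map h = J.toSpec :=
  (exists_map h).choose_spec.2

theorem map_refl : map (le_refl J) = 𝟙 J.spec :=
  J.isSpec.hom_ext J.proj (map_proj _) (Category.id_comp _) (by rw [toSpec_map, Category.comp_id])

theorem map_trans {K L : FGSub f} (h : J ≤ K) (h' : K ≤ L) : map (h.trans h') = map h' ≫ map h :=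
  L.isSpec.hom_ext J.proj (map_proj _) (by rw [Category.assoc, map_proj, map_proj])
    (by rw [toSpec_map, toSpec_map_assoc, toSpec_map])

instance {K : FGSub f} (h : J ≤ K) : IsAffineHom (map h) := by
  haveI : IsAffineHom (map h ≫ J.proj) := by rw [map_proj]; infer_instance
  exact MorphismProperty.of_postcomp @IsAffineHom (map h) J.proj
    (show IsSeparated J.proj from inferInstance) ‹_›

end FGSub

/-- The inverse system of finite type affine schemes. -/
noncomputable def system : (FGSub f)ᵒᵖ ⥤ Over Y where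
  obj J := Over.mk J.unop.proj
  map {J K} a := Over.homMk (FGSub.map a.unop.le) (FGSub.map_proj _)
  map_id J := Over.OverMorphism.ext FGSub.map_refl
  map_comp a b := Over.OverMorphism.ext (FGSub.map_trans b.unop.le a.unop.le)

instance (J : (FGSub f)ᵒᵖ) : IsAffineHom ((system f).obj J).hom :=
  inferInstanceAs (IsAffineHom J.unop.proj)

instance (J : (FGSub f)ᵒᵖ) : LocallyOfFiniteType ((system f).obj J).hom :=
  inferInstanceAs (LocallyOfFiniteType J.unop.proj)

instance {J K : (FGSub f)ᵒᵖ} (a : J ⟶ K) : IsAffineHom ((system f).map a).left :=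
  inferInstanceAs (IsAffineHom (FGSub.map a.unop.le))

/-- `X` over the inverse system. -/
noncomputable def systemCone : Cone (system f) where
  pt := Over.mk f
  π :=
    { app := fun J ↦ Over.homMk J.unop.toSpec J.unop.toSpec_proj
      naturality := fun J K a ↦ Over.OverMorphism.ext (by
        show 𝟙 X ≫ _ = _ ≫ FGSub.map a.unop.le
        rw [Category.id_comp]
        exact (FGSub.toSpec_map _).symm) }

theorem exists_mem [CompactSpace Y] [QuasiSeparatedSpace Y] (U : Y.affineOpens)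
    (s : Finset Γ(X, f ⁻¹ᵁ U.1)) : ∃ J : FGSub f, (s : Set Γ(X, f ⁻¹ᵁ U.1)) ⊆ J.1.S U := by
  obtain ⟨J, -, hJ, hs⟩ := (Sub.top f).exists_fg_le U s fun _ _ ↦ Subring.mem_top _
  exact ⟨⟨J, hJ⟩, hs⟩

variable [IsAffineHom f] [CompactSpace Y] [QuasiSeparatedSpace Y]

theorem exists_lift (s : Cone (system f)) :
    ∃ g : s.pt ⟶ Over.mk f, ∀ J, g ≫ (systemCone f).π.app J = s.π.app J := by
  classical
  let Z := s.pt.left
  let q : Z ⟶ Y := s.pt.hom
  let c : ∀ J : FGSub f, Z ⟶ J.spec := fun J ↦ (s.π.app (op J)).left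
  have hc : ∀ J : FGSub f, c J ≫ J.proj = q := fun J ↦ Over.w (s.π.app (op J))
  have hcmap : ∀ {J K : FGSub f} (h : J ≤ K), c K ≫ FGSub.map h = c J := fun {J K} h ↦
    congr($(s.w (homOfLE h).op).left)
  let γ := fun (J : FGSub f) (U : Y.affineOpens) ↦
    (c J).appLE (J.proj ⁻¹ᵁ U.1) (q ⁻¹ᵁ U.1) (preimage_le J.proj q (hc J) _)
  let α := fun (J : FGSub f) (U : Y.affineOpens) ↦
    J.toSpec.appLE (J.proj ⁻¹ᵁ U.1) (f ⁻¹ᵁ U.1) (preimage_le J.proj f J.toSpec_proj _)
  -- compatibility of the components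
  have hcompat : ∀ (J K : FGSub f) (U : Y.affineOpens) v w, α J U v = α K U w → γ J U v = γ K U w := by
    intro J K U v w e
    obtain ⟨L, hJL, hKL⟩ := exists_ge f J K
    have key : ∀ (J : FGSub f) (h : J ≤ L) v,
        ∃ v', α L U v' = α J U v ∧ γ L U v' = γ J U v := fun J h v ↦
      ⟨(FGSub.map h).appLE (J.proj ⁻¹ᵁ U.1) (L.proj ⁻¹ᵁ U.1) (preimage_le J.proj L.proj (FGSub.map_proj h) _) v,
        by simp only [α, ← CommRingCat.comp_apply, Scheme.Hom.appLE_comp_appLE, FGSub.toSpec_map],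
        by simp only [γ, ← CommRingCat.comp_apply, Scheme.Hom.appLE_comp_appLE, hcmap]⟩
    obtain ⟨v', hv, hv'⟩ := key J hJL v
    obtain ⟨w', hw, hw'⟩ := key K hKL w
    rw [← hv', ← hw', L.isSpec.injective U (show α L U v' = α L U w' by rw [hv, hw, e])]
  -- every section comes from some stage
  have hrep : ∀ (U : Y.affineOpens) (t : Finset Γ(X, f ⁻¹ᵁ U.1)),
      ∃ J : FGSub f, ∀ x ∈ t, ∃ v, α J U v = x := fun U t ↦ by
    obtain ⟨J, hJ⟩ := exists_mem f U t
    exact ⟨J, fun x hx ↦ (J.isSpec.range_eq U).ge (hJ hx)⟩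
  choose J₁ hJ₁ using fun U (x : Γ(X, f ⁻¹ᵁ U.1)) ↦ hrep U {x}
  choose v₁ hv₁ using fun U x ↦ hJ₁ U x x (Finset.mem_singleton_self x)
  let φf := fun U x ↦ γ (J₁ U x) U (v₁ U x)
  have hφ : ∀ (J : FGSub f) (U : Y.affineOpens) v, φf U (α J U v) = γ J U v := fun J U v ↦
    hcompat _ _ U _ _ (hv₁ U _)
  let φ : ∀ U : Y.affineOpens, Γ(X, f ⁻¹ᵁ U.1) ⟶ Γ(Z, q ⁻¹ᵁ U.1) := fun U ↦ CommRingCat.ofHom
    { toFun := φf U
      map_one' := by
        obtain ⟨J, -⟩ := hrep U {1}
        rw [← map_one (α J U).hom, hφ]; exact map_one _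
      map_zero' := by
        obtain ⟨J, -⟩ := hrep U {0}
        rw [← map_zero (α J U).hom, hφ]; exact map_zero _
      map_mul' := fun x y ↦ by
        obtain ⟨J, hJ⟩ := hrep U {x, y}
        obtain ⟨v, rfl⟩ := hJ x (by simp)
        obtain ⟨w, rfl⟩ := hJ y (by simp)
        rw [← map_mul (α J U).hom, hφ, hφ, hφ]; exact map_mul _ _ _
      map_add' := fun x y ↦ by
        obtain ⟨J, hJ⟩ := hrep U {x, y}
        obtain ⟨v, rfl⟩ := hJ x (by simp)
        obtain ⟨w, rfl⟩ := hJ y (by simp)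
        rw [← map_add (α J U).hom, hφ, hφ, hφ]; exact map_add _ _ _ }
  have hαφ : ∀ J U, α J U ≫ φ U = γ J U := fun J U ↦ by ext v; exact hφ J U v
  have J₀ : FGSub f := ⟨Sub.bot f, Sub.bot_fgAt⟩
  obtain ⟨g, hg, hgφ⟩ := exists_hom_of_app f q φ (fun U ↦ by
      have h1 : f.app U.1 = J₀.proj.app U.1 ≫ α J₀ U := by
        simp only [α, Scheme.Hom.app_eq_appLE, Scheme.Hom.appLE_comp_appLE, FGSub.toSpec_proj]
      rw [h1, Category.assoc, hαφ]
      simp only [γ, Scheme.Hom.app_eq_appLE, Scheme.Hom.appLE_comp_appLE, hc])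
    (fun U r ↦ by
      ext x
      obtain ⟨J, hJ⟩ := hrep U {x}
      obtain ⟨v, rfl⟩ := hJ x (Finset.mem_singleton_self x)
      have h1 : α J U ≫ X.presheaf.map (homOfLE (f.preimage_mono (Y.basicOpen_le r))).op =
          J.spec.presheaf.map (homOfLE (J.proj.preimage_mono (Y.basicOpen_le r))).op ≫
            α J ⟨Y.basicOpen r, U.2.basicOpen r⟩ := by
        simp only [α, Scheme.Hom.appLE_map, Scheme.Hom.map_appLE]
      simp only [CommRingCat.comp_apply]
      have e1 : φ U (α J U v) = γ J U v := hφ J U v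
      have e2 := congr($h1 v)
      simp only [CommRingCat.comp_apply] at e2
      rw [e1, e2]
      rw [show φ ⟨Y.basicOpen r, U.2.basicOpen r⟩ (α J ⟨Y.basicOpen r, U.2.basicOpen r⟩ _) =
        γ J ⟨Y.basicOpen r, U.2.basicOpen r⟩ _ from hφ J _ _]
      simp only [γ, ← CommRingCat.comp_apply, Scheme.Hom.appLE_map, Scheme.Hom.map_appLE])
  refine ⟨Over.homMk g hg, fun J ↦ Over.OverMorphism.ext ?_⟩
  show g ≫ J.unop.toSpec = c J.unop
  refine hom_ext_app J.unop.proj q (by rw [Category.assoc, FGSub.toSpec_proj, hg]) (hc _) fun U ↦ ?_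
  rw [← Scheme.Hom.appLE_comp_appLE g J.unop.toSpec (J.unop.proj ⁻¹ᵁ U.1) (f ⁻¹ᵁ U.1) (q ⁻¹ᵁ U.1)
    (preimage_le _ f J.unop.toSpec_proj _) (preimage_le f q hg _), hgφ U]
  exact hαφ _ U

/-- **`X` is the limit of the spectra of the finite type subalgebras.** -/
noncomputable def isLimitSystemCone : IsLimit (systemCone f) where
  lift s := (exists_lift f s).choose
  fac s J := (exists_lift f s).choose_spec J
  uniq s m hm := by
    obtain ⟨g, hg⟩ : ∃ g, g = (exists_lift f s).choose := ⟨_, rfl⟩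
    rw [← hg]
    refine Over.OverMorphism.ext (hom_ext_app f s.pt.hom (Over.w m) (Over.w g) fun U ↦ ?_)
    ext x
    obtain ⟨J, hJ⟩ := exists_mem f U {x}
    obtain ⟨v, rfl⟩ := (J.isSpec.range_eq U).ge (hJ (Finset.mem_singleton_self x))
    have h1 : m.left ≫ J.toSpec = g.left ≫ J.toSpec := by
      refine (congr($(hm (op J)).left)).trans (congr($((exists_lift f s).choose_spec (op J)).left)).symm |>.trans ?_
      rw [hg]; rfl
    simp only [← CommRingCat.comp_apply, Scheme.Hom.appLE_comp_appLE, h1]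

end Groth.Agent.H7Lim.Approx
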