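import Groth.Agent.H7Lim.Approx.Eventually

/-!
# Consequences of relative approximation
-/

set_option autoImplicit false
set_option backward.isDefEq.respectTransparency false
set_option backward.defeqAttrib.useBackward true
set_option linter.style.haveILetI false
set_option linter.unusedSectionVars false

universe u

open AlgebraicGeometry CategoryTheory CategoryTheory.Limits Opposite TopologicalSpace
open AlgebraicGeometry.Scheme

namespace Groth.Agent.H7Lim.Approx

variable {X S : Scheme.{u}} (f : X ⟶ S) [CompactSpace X] [QuasiSeparatedSpace X] [QuasiSeparatedSpace S]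

/-- Closed immersion into a finitely presented scheme. -/
theorem exists_isClosedImmersion_fp [LocallyOfFiniteType f] :
    ∃ (X' : Scheme.{u}) (f' : X' ⟶ S) (j : X ⟶ X'), LocallyOfFinitePresentation f' ∧ QuasiCompact f' ∧
      QuasiSeparated f' ∧ CompactSpace X' ∧ QuasiSeparatedSpace X' ∧
      IsClosedImmersion j ∧ j ≫ f' = f ∧ (CompactSpace S → IsSeparated f → IsSeparated f') := by
  obtain ⟨I, _, _, _, D, c, hc, hfin, haff, ⟨e⟩⟩ := exists_fp_system f
  haveI : ∀ (i j : Iᵒᵖ) (a : i ⟶ j), IsAffineHom (D.map a).left := haff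
  haveI : ∀ i, CompactSpace (D.obj i).left := fun i ↦ (hfin i).2.2.2.1
  haveI : ∀ i, QuasiSeparatedSpace (D.obj i).left := fun i ↦ (hfin i).2.2.2.2
  haveI : IsIso e.inv.left := inferInstanceAs (IsIso ((Over.forget S).map e.inv))
  haveI : LocallyOfFiniteType (e.inv.left ≫ c.pt.hom) := by
    rw [Over.w e.inv]; exact ‹LocallyOfFiniteType f›
  have hj : ∀ i, (e.inv.left ≫ (c.π.app i).left) ≫ (D.obj i).hom = f := fun i ↦ by
    rw [Category.assoc, Over.w (c.π.app i)]; exact Over.w e.inv
  -- choose the stage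
  obtain ⟨i₁, hi₁⟩ : ∃ i₁ : Iᵒᵖ, CompactSpace S → IsSeparated f →
      ∀ i, (i ⟶ i₁) → IsSeparated (D.obj i).hom := by
    by_cases h : CompactSpace S ∧ IsSeparated f
    · obtain ⟨_, hf⟩ := h
      obtain ⟨hc'⟩ := nonempty_isLimit_forget hc
      let i₀ : Iᵒᵖ := Classical.arbitrary _
      haveI : ∀ (i j : Iᵒᵖ) (a : i ⟶ j), IsAffineHom ((D ⋙ Over.forget S).map a) := haff
      haveI : ∀ i, CompactSpace ((D ⋙ Over.forget S).obj i) := fun i ↦ (hfin i).2.2.2.1
      haveI : ∀ i, QuasiSeparatedSpace ((D ⋙ Over.forget S).obj i) := fun i ↦ (hfin i).2.2.2.2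
      haveI : IsSeparated (((Over.forget S).mapCone c).π.app i₀ ≫ (D.obj i₀).hom) := by
        show IsSeparated ((c.π.app i₀).left ≫ (D.obj i₀).hom)
        rw [show (c.π.app i₀).left ≫ (D.obj i₀).hom = c.pt.hom from Over.w (c.π.app i₀), ← MorphismProperty.cancel_left_of_respectsIso @IsSeparated e.inv.left,
          Over.w e.inv]
        exact hf
      obtain ⟨i₁, hi₁⟩ := exists_isSeparated_structureMap (c := (Over.forget S).mapCone c) hc'
        (fun i ↦ (D.obj i).hom) (fun φ ↦ Over.w (D.map φ)) i₀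
      exact ⟨i₁, fun _ _ i a ↦ hi₁ i a⟩
    · exact ⟨Classical.arbitrary _, fun h₁ h₂ ↦ absurd ⟨h₁, h₂⟩ h⟩
  obtain ⟨i, a, hi⟩ := exists_isClosedImmersion_stage hc e.inv.left i₁
  exact ⟨(D.obj i).left, (D.obj i).hom, e.inv.left ≫ (c.π.app i).left, (hfin i).1, (hfin i).2.1,
    (hfin i).2.2.1, (hfin i).2.2.2.1, (hfin i).2.2.2.2, hi, hj i, fun h₁ h₂ ↦ hi₁ h₁ h₂ i a⟩

/-- `X` is a limit of finitely presented schemes with closed immersions as transition maps. -/
theorem exists_closedImmersion_system [LocallyOfFiniteType f] :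
    ∃ (I : Type u) (_ : Preorder I) (_ : IsDirected I (fun a b => a ≤ b)) (_ : Nonempty I)
      (D : Iᵒᵖ ⥤ Over S) (c : Limits.Cone D) (_ : Limits.IsLimit c),
      (∀ i, LocallyOfFinitePresentation (D.obj i).hom ∧ QuasiCompact (D.obj i).hom ∧
        QuasiSeparated (D.obj i).hom ∧ CompactSpace (D.obj i).left ∧ QuasiSeparatedSpace (D.obj i).left) ∧
      (∀ (i j : Iᵒᵖ) (a : i ⟶ j), IsClosedImmersion (D.map a).left) ∧
      Nonempty (c.pt ≅ Over.mk f) := by
  obtain ⟨X', f', j, hlfp, hqc, hqs, hX'c, hX'q, hj, hjf, -⟩ := exists_isClosedImmersion_fp f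
  let J := j.ker
  let D : (FTIdeal J)ᵒᵖ ⥤ Over S := ftSystemOver J ⋙ Over.map f'
  let c : Cone D := (Over.map f').mapCone (ftConeOver J)
  have hlim : IsLimit c :=
    { lift := fun s ↦ Over.homMk ((isLimitFtCone J).lift
        { pt := s.pt.left
          π :=
            { app := fun K ↦ (s.π.app K).left
              naturality := fun K L a ↦ by
                have := congr(($(s.w a)).left)
                dsimp [D, ftSystemOver, ftSystem] at this ⊢
                rw [Category.id_comp]; exact this.symm } }) (by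
          let J₀ : (FTIdeal J)ᵒᵖ := Classical.arbitrary _
          show _ ≫ J.subschemeι ≫ f' = _
          rw [← show (s.π.app J₀).left ≫ (D.obj J₀).hom = s.pt.hom from Over.w (s.π.app J₀)]
          have h1 : J.subschemeι = (ftCone J).π.app J₀ ≫ J₀.unop.1.subschemeι :=
            (Scheme.IdealSheafData.inclusion_subschemeι J₀.unop.2.1).symm
          rw [h1, Category.assoc, (isLimitFtCone J).fac_assoc]
          rfl)
      fac := fun s K ↦ Over.OverMorphism.ext ((isLimitFtCone J).fac _ K)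
      uniq := fun s m hm ↦ Over.OverMorphism.ext ((isLimitFtCone J).hom_ext fun K ↦ by
        dsimp
        rw [(isLimitFtCone J).fac]
        exact congr(($(hm K)).left)) }
  refine ⟨FTIdeal J, inferInstance, inferInstance, inferInstance, D, c, hlim, fun K ↦ ?_,
    fun K L a ↦ ?_, ⟨?_⟩⟩
  · haveI : IsClosedImmersion K.unop.1.subschemeι := inferInstance
    haveI : LocallyOfFinitePresentation K.unop.1.subschemeι :=
      locallyOfFinitePresentation_of_ker_fg _ fun U ↦ by
        rw [Scheme.IdealSheafData.ker_subschemeι]; exact K.unop.2.2 U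
    exact ⟨inferInstanceAs (LocallyOfFinitePresentation (K.unop.1.subschemeι ≫ f')),
      inferInstanceAs (QuasiCompact (K.unop.1.subschemeι ≫ f')),
      inferInstanceAs (QuasiSeparated (K.unop.1.subschemeι ≫ f')),
      QuasiCompact.compactSpace_of_compactSpace K.unop.1.subschemeι,
      quasiSeparatedSpace_of_quasiSeparated K.unop.1.subschemeι⟩
  · exact isClosedImmersion_ftSystem_map J a
  · refine (Over.isoMk (asIso j.toImage) ?_).symm
    show j.toImage ≫ j.imageι ≫ f' = f
    rw [Scheme.Hom.toImage_imageι_assoc, hjf]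

omit [QuasiSeparatedSpace S] in
/-- An affine morphism of qcqs schemes is a limit of affine finitely presented ones. -/
theorem isAffineHom_iff_fp_system [CompactSpace S] [QuasiSeparatedSpace S] :
    IsAffineHom f ↔
      ∃ (I : Type u) (_ : SmallCategory I) (_ : IsFiltered I) (D : Iᵒᵖ ⥤ Over S)
        (c : Limits.Cone D) (_ : Limits.IsLimit c),
        (∀ i, IsAffineHom (D.obj i).hom ∧ LocallyOfFinitePresentation (D.obj i).hom) ∧
        Nonempty (c.pt ≅ Over.mk f) := by
  constructor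
  · intro hf
    obtain ⟨I, _, _, _, D, c, hc, hfin, haff, ⟨e⟩⟩ := exists_fp_system f
    obtain ⟨hc'⟩ := nonempty_isLimit_forget hc
    haveI : ∀ (i j : Iᵒᵖ) (a : i ⟶ j), IsAffineHom ((D ⋙ Over.forget S).map a) := haff
    haveI : ∀ i, CompactSpace ((D ⋙ Over.forget S).obj i) := fun i ↦ (hfin i).2.2.2.1
    haveI : ∀ i, QuasiSeparatedSpace ((D ⋙ Over.forget S).obj i) := fun i ↦ (hfin i).2.2.2.2
    haveI : IsIso e.inv.left := inferInstanceAs (IsIso ((Over.forget S).map e.inv))
    let i₀ : Iᵒᵖ := Classical.arbitrary _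
    haveI : IsAffineHom (((Over.forget S).mapCone c).π.app i₀ ≫ (D.obj i₀).hom) := by
      show IsAffineHom ((c.π.app i₀).left ≫ (D.obj i₀).hom)
      rw [show (c.π.app i₀).left ≫ (D.obj i₀).hom = c.pt.hom from Over.w (c.π.app i₀), ← MorphismProperty.cancel_left_of_respectsIso @IsAffineHom e.inv.left,
        Over.w e.inv]
      exact hf
    obtain ⟨i₁, hi₁⟩ := exists_isAffineHom_structureMap (c := (Over.forget S).mapCone c) hc'
      (fun i ↦ (D.obj i).hom) (fun φ ↦ Over.w (D.map φ)) i₀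
    let I' := {i : I // i₁.unop ≤ i}
    haveI : Nonempty I' := ⟨⟨i₁.unop, le_rfl⟩⟩
    haveI : IsDirected I' (fun a b => a ≤ b) := ⟨fun a b ↦ by
      obtain ⟨k, hk₁, hk₂⟩ := directed_of (fun a b : I => a ≤ b) a.1 b.1
      exact ⟨⟨k, a.2.trans hk₁⟩, hk₁, hk₂⟩⟩
    have hmono : Monotone (Subtype.val : I' → I) := fun _ _ h ↦ h
    haveI := initial_op_of_cofinal _ hmono fun j ↦ by
      obtain ⟨k, hk₁, hk₂⟩ := directed_of (fun a b : I => a ≤ b) i₁.unop j
      exact ⟨⟨k, hk₁⟩, hk₂⟩
    exact ⟨I', inferInstance, inferInstance, hmono.functor.op ⋙ D, c.whisker hmono.functor.op,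
      (Functor.Initial.isLimitWhiskerEquiv hmono.functor.op c).symm hc,
      fun i ↦ ⟨hi₁ (op i.unop.1) (homOfLE i.unop.2).op, (hfin _).1⟩, ⟨e⟩⟩
  · rintro ⟨I, _, _, D, c, hc, hprop, ⟨e⟩⟩
    haveI : ∀ (i j : Iᵒᵖ) (a : i ⟶ j), IsAffineHom ((D ⋙ Over.forget S).map a) := fun i j a ↦ by
      haveI := (hprop i).1
      haveI := (hprop j).1
      haveI : IsAffineHom ((D.map a).left ≫ (D.obj j).hom) := by rw [Over.w (D.map a)]; infer_instance
      exact MorphismProperty.of_postcomp @IsAffineHom (D.map a).left (D.obj j).hom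
        (show IsSeparated (D.obj j).hom from inferInstance) ‹_›
    obtain ⟨hc'⟩ := nonempty_isLimit_forget hc
    let i : Iᵒᵖ := op IsFiltered.nonempty.some
    haveI := (hprop i).1
    haveI : IsAffineHom (c.π.app i).left :=
      isAffineHom_π_app (D ⋙ Over.forget S) ((Over.forget S).mapCone c) hc' i
    haveI : IsIso e.inv.left := inferInstanceAs (IsIso ((Over.forget S).map e.inv))
    have h : e.inv.left ≫ (c.π.app i).left ≫ (D.obj i).hom = f := by
      rw [Over.w (c.π.app i)]; exact Over.w e.inv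
    rw [← h]
    infer_instance

omit [QuasiSeparatedSpace S] in
/-- Factor as affine followed by finitely presented. -/
theorem exists_affineHom_comp_fp [CompactSpace S] [QuasiSeparatedSpace S] :
    ∃ (Z : Scheme.{u}) (g : X ⟶ Z) (h : Z ⟶ S), IsAffineHom g ∧ LocallyOfFinitePresentation h ∧
      QuasiCompact h ∧ QuasiSeparated h ∧ (IsSeparated f → IsSeparated h) ∧ g ≫ h = f := by
  obtain ⟨I, _, _, _, D, c, hc, hfin, haff, ⟨e⟩⟩ := exists_fp_system f
  obtain ⟨hc'⟩ := nonempty_isLimit_forget hc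
  haveI : ∀ (i j : Iᵒᵖ) (a : i ⟶ j), IsAffineHom ((D ⋙ Over.forget S).map a) := haff
  haveI : ∀ i, CompactSpace ((D ⋙ Over.forget S).obj i) := fun i ↦ (hfin i).2.2.2.1
  haveI : ∀ i, QuasiSeparatedSpace ((D ⋙ Over.forget S).obj i) := fun i ↦ (hfin i).2.2.2.2
  haveI : IsIso e.inv.left := inferInstanceAs (IsIso ((Over.forget S).map e.inv))
  haveI hπ : ∀ i, IsAffineHom (c.π.app i).left := fun i ↦
    isAffineHom_π_app (D ⋙ Over.forget S) ((Over.forget S).mapCone c) hc' i
  have hcomp : ∀ i, (e.inv.left ≫ (c.π.app i).left) ≫ (D.obj i).hom = f := fun i ↦ by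
    rw [Category.assoc, Over.w (c.π.app i)]; exact Over.w e.inv
  obtain ⟨i, hi⟩ : ∃ i, IsSeparated f → IsSeparated (D.obj i).hom := by
    by_cases hf : IsSeparated f
    · let i₀ : Iᵒᵖ := Classical.arbitrary _
      haveI : IsSeparated (((Over.forget S).mapCone c).π.app i₀ ≫ (D.obj i₀).hom) := by
        show IsSeparated ((c.π.app i₀).left ≫ (D.obj i₀).hom)
        rw [show (c.π.app i₀).left ≫ (D.obj i₀).hom = c.pt.hom from Over.w (c.π.app i₀), ← MorphismProperty.cancel_left_of_respectsIso @IsSeparated e.inv.left,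
          Over.w e.inv]
        exact hf
      obtain ⟨i₁, hi₁⟩ := exists_isSeparated_structureMap (c := (Over.forget S).mapCone c) hc'
        (fun i ↦ (D.obj i).hom) (fun φ ↦ Over.w (D.map φ)) i₀
      exact ⟨i₁, fun _ ↦ hi₁ i₁ (𝟙 _)⟩
    · exact ⟨Classical.arbitrary _, fun h ↦ absurd h hf⟩
  exact ⟨(D.obj i).left, e.inv.left ≫ (c.π.app i).left, (D.obj i).hom, inferInstance, (hfin i).1,
    (hfin i).2.1, (hfin i).2.2.1, hi, hcomp i⟩

end Groth.Agent.H7Lim.Approx
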