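import Groth.Agent.H7Lim.Approx.Pair

/-!
# Relative approximation: schemes over a quasi-separated base are limits of finitely presented ones
-/

set_option autoImplicit false
set_option backward.isDefEq.respectTransparency false
set_option backward.defeqAttrib.useBackward true
set_option linter.style.haveILetI false
set_option linter.unusedSectionVars false

universe u

open AlgebraicGeometry CategoryTheory CategoryTheory.Limits Opposite TopologicalSpace
open AlgebraicGeometry.Scheme

namespace Groth.Agent.H7Lim.Approx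

/-- **Relative approximation.** -/
theorem exists_fp_system {X S : Scheme.{u}} (f : X ⟶ S)
    [CompactSpace X] [QuasiSeparatedSpace X] [QuasiSeparatedSpace S] :
    ∃ (I : Type u) (_ : Preorder I) (_ : IsDirected I (fun a b => a ≤ b)) (_ : Nonempty I)
      (D : Iᵒᵖ ⥤ Over S) (c : Limits.Cone D) (_ : Limits.IsLimit c),
      (∀ i, LocallyOfFinitePresentation (D.obj i).hom ∧ QuasiCompact (D.obj i).hom ∧
        QuasiSeparated (D.obj i).hom ∧ CompactSpace (D.obj i).left ∧
        QuasiSeparatedSpace (D.obj i).left) ∧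
      (∀ (i j : Iᵒᵖ) (a : i ⟶ j), IsAffineHom (D.map a).left) ∧
      Nonempty (c.pt ≅ Over.mk f) := by
  classical
  -- reduce to a qcqs base
  obtain ⟨T, hT⟩ := (isCompact_range f.continuous).elim_finite_subcover
    (fun W : S.affineOpens ↦ ((W : S.Opens) : Set S)) (fun W ↦ W.1.2) (fun x _ ↦ by
      simpa using (iSup_affineOpens_eq_top S).ge (Set.mem_univ x))
  let S' : S.Opens := T.sup fun W ↦ W.1
  have hS'c : IsCompact (S' : Set S) := isCompact_finset_sup T
  haveI : CompactSpace S'.toScheme := isCompact_iff_compactSpace.mp hS'c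
  haveI : QuasiSeparatedSpace S'.toScheme :=
    (isQuasiSeparated_iff_quasiSeparatedSpace _ S'.2).mp (.of_quasiSeparatedSpace _)
  let f' : X ⟶ S'.toScheme := IsOpenImmersion.lift S'.ι f (by
    rw [Scheme.Opens.range_ι]
    intro y hy
    obtain ⟨W, hW, hyW⟩ := Set.mem_iUnion₂.mp (hT hy)
    exact Finset.le_sup (f := fun W : S.affineOpens ↦ (W.1 : S.Opens)) hW hyW)
  have hf' : f' ≫ S'.ι = f := IsOpenImmersion.lift_fac _ _ _
  obtain ⟨S₀, g, hg, hS₀, hS₀t⟩ := exists_affineHom_finiteType S'.toScheme
  obtain ⟨X₁, a, φ₀, ha, hX₁, hX₁t, w⟩ := exists_factor_finiteType (f' ≫ g)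
  haveI := quasiSeparatedSpace_of_toZ S₀
  haveI := quasiSeparatedSpace_of_toZ X₁
  obtain ⟨I, _, _, _, DX, DS, φ, cX, cS, hcX, hcS, eX, eS, haff, hfin, hcomm⟩ :=
    exists_pair_system f' a g φ₀ w
  haveI : ∀ i, CompactSpace (DX.obj i) := fun i ↦ (hfin i).1
  haveI : ∀ i, QuasiSeparatedSpace (DX.obj i) := fun i ↦
    haveI := (hfin i).2.2.1
    quasiSeparatedSpace_of_toZ _
  haveI : ∀ i, QuasiSeparatedSpace (DS.obj i) := fun i ↦
    haveI := (hfin i).2.2.2
    quasiSeparatedSpace_of_toZ _
  haveI : ∀ (i j : Iᵒᵖ) (u : i ⟶ j), IsAffineHom (DS.map u) := fun i j u ↦ (haff i j u).2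
  let q : ∀ i, S'.toScheme ⟶ DS.obj i := fun i ↦ eS.inv ≫ cS.π.app i
  have hq : ∀ {i j : Iᵒᵖ} (u : i ⟶ j), q i ≫ DS.map u = q j := fun u ↦ by
    simp only [q, Category.assoc, cS.w]
  haveI hqaff : ∀ i, IsAffineHom (q i) := fun i ↦
    haveI := isAffineHom_π_app DS cS hcS i
    inferInstanceAs (IsAffineHom (eS.inv ≫ cS.π.app i))
  haveI : ∀ i, LocallyOfFinitePresentation (φ.app i) := fun i ↦ by
    haveI := (hfin i).2.2.1
    haveI := (hfin i).2.2.2
    haveI := isLocallyNoetherian_of_toZ (DS.obj i)
    haveI : LocallyOfFiniteType (φ.app i ≫ toZ (DS.obj i)) := by rw [comp_toZ]; infer_instance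
    haveI := locallyOfFiniteType_of_comp (φ.app i) (toZ (DS.obj i))
    exact H18HTop.locallyOfFinitePresentation_of_noetherian (φ.app i)
  haveI : ∀ i, QuasiCompact (φ.app i) := fun i ↦ inferInstance
  haveI : ∀ i, QuasiSeparated (φ.app i) := fun i ↦ inferInstance
  -- the system
  have hmap : ∀ {i j : Iᵒᵖ} (u : i ⟶ j),
      (pullback.fst (q i) (φ.app i)) ≫ q j = (pullback.snd (q i) (φ.app i) ≫ DX.map u) ≫ φ.app j := by
    intro i j u
    rw [Category.assoc, φ.naturality, ← pullback.condition_assoc, hq]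
  let D : Iᵒᵖ ⥤ Over S :=
    { obj := fun i ↦ Over.mk (pullback.fst (q i) (φ.app i) ≫ S'.ι)
      map := fun {i j} u ↦ Over.homMk (pullback.lift (pullback.fst (q i) (φ.app i))
        (pullback.snd (q i) (φ.app i) ≫ DX.map u) (hmap u)) (pullback.lift_fst_assoc _ _ _ _)
      map_id := fun i ↦ Over.OverMorphism.ext (pullback.hom_ext (by simp) (by simp))
      map_comp := fun u v ↦ Over.OverMorphism.ext (pullback.hom_ext (by simp) (by simp)) }
  have hpt : ∀ i, f' ≫ q i = (eX.inv ≫ cX.π.app i) ≫ φ.app i := by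
    intro i
    rw [Category.assoc, hcomm, Iso.inv_hom_id_assoc]
  let c : Cone D :=
    { pt := Over.mk f
      π :=
        { app := fun i ↦ Over.homMk (pullback.lift f' (eX.inv ≫ cX.π.app i) (hpt i))
            ((pullback.lift_fst_assoc _ _ _ _).trans hf')
          naturality := fun i j u ↦ Over.OverMorphism.ext (by
            apply pullback.hom_ext <;> simp [D, cX.w]) } }
  refine ⟨I, inferInstance, inferInstance, inferInstance, D, c, ?_, fun i ↦ ?_, fun i j u ↦ ?_,
    ⟨Iso.refl _⟩⟩
  · have hp : ∀ (s : Cone D) (i : Iᵒᵖ), s.pt.hom =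
        ((s.π.app i).left ≫ pullback.fst (q i) (φ.app i)) ≫ S'.ι := fun s i ↦ by
      rw [Category.assoc]; exact (Over.w (s.π.app i)).symm
    let sX : Cone D → Cone DX := fun s ↦
      { pt := s.pt.left
        π :=
          { app := fun i ↦ (s.π.app i).left ≫ pullback.snd (q i) (φ.app i)
            naturality := fun i j u ↦ by
              dsimp
              rw [Category.id_comp, ← congr(($(s.w u)).left)]
              simp [D] } }
    have hfst : ∀ (s : Cone D) (i : Iᵒᵖ), (hcX.lift (sX s) ≫ eX.hom) ≫ f' =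
        (s.π.app i).left ≫ pullback.fst (q i) (φ.app i) := by
      intro s i
      rw [← cancel_mono eS.inv]
      refine hcS.hom_ext fun k ↦ ?_
      have hk : (s.π.app i).left ≫ pullback.fst (q i) (φ.app i) =
          (s.π.app k).left ≫ pullback.fst (q k) (φ.app k) := by
        rw [← cancel_mono S'.ι, ← hp, ← hp]
      rw [hk]
      calc _ = hcX.lift (sX s) ≫ cX.π.app k ≫ φ.app k := by rw [hcomm]; simp
        _ = ((s.π.app k).left ≫ pullback.snd (q k) (φ.app k)) ≫ φ.app k := by
          rw [hcX.fac_assoc]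
        _ = _ := by simp [← pullback.condition, q]
    let i₀ : Iᵒᵖ := Classical.arbitrary _
    exact
      { lift := fun s ↦ Over.homMk (hcX.lift (sX s) ≫ eX.hom) (by
          show (hcX.lift (sX s) ≫ eX.hom) ≫ f = _
          rw [← hf', ← Category.assoc, hfst s i₀, hp s i₀])
        fac := fun s i ↦ Over.OverMorphism.ext (by
          show (hcX.lift (sX s) ≫ eX.hom) ≫ pullback.lift f' (eX.inv ≫ cX.π.app i) (hpt i) = _
          apply pullback.hom_ext
          · rw [Category.assoc, pullback.lift_fst, hfst s i]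
          · rw [Category.assoc, pullback.lift_snd, Category.assoc, Iso.hom_inv_id_assoc, hcX.fac])
        uniq := fun s m hm ↦ Over.OverMorphism.ext (by
          show m.left = hcX.lift (sX s) ≫ eX.hom
          rw [← cancel_mono eX.inv, Category.assoc, Iso.hom_inv_id, Category.comp_id]
          refine hcX.hom_ext fun i ↦ ?_
          rw [hcX.fac]
          show _ = (s.π.app i).left ≫ _
          rw [← hm i]
          simp [c]) }
  · have h1 : LocallyOfFinitePresentation (pullback.fst (q i) (φ.app i)) :=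
      MorphismProperty.pullback_fst _ _ inferInstance
    have h2 : QuasiCompact (pullback.fst (q i) (φ.app i)) :=
      MorphismProperty.pullback_fst _ _ inferInstance
    have h3 : QuasiSeparated (pullback.fst (q i) (φ.app i)) :=
      MorphismProperty.pullback_fst _ _ inferInstance
    refine ⟨inferInstanceAs (LocallyOfFinitePresentation (pullback.fst (q i) (φ.app i) ≫ S'.ι)),
      inferInstanceAs (QuasiCompact (pullback.fst (q i) (φ.app i) ≫ S'.ι)),
      inferInstanceAs (QuasiSeparated (pullback.fst (q i) (φ.app i) ≫ S'.ι)), ?_, ?_⟩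
    · exact QuasiCompact.compactSpace_of_compactSpace (pullback.fst (q i) (φ.app i))
    · exact quasiSeparatedSpace_of_quasiSeparated (pullback.fst (q i) (φ.app i))
  · haveI := (haff i j u).1
    haveI : IsAffineHom (pullback.snd (q i) (φ.app i)) := MorphismProperty.pullback_snd _ _ (hqaff i)
    haveI : IsAffineHom (pullback.snd (q j) (φ.app j)) := MorphismProperty.pullback_snd _ _ (hqaff j)
    haveI : IsAffineHom ((D.map u).left ≫ pullback.snd (q j) (φ.app j)) := by
      simp only [D, Over.homMk_left]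
      erw [pullback.lift_snd]
      infer_instance
    exact MorphismProperty.of_postcomp @IsAffineHom (D.map u).left (pullback.snd (q j) (φ.app j))
      (show IsSeparated _ from inferInstance) ‹_›

end Groth.Agent.H7Lim.Approx
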