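import Mathlib.AlgebraicGeometry.Normalization

/-!
# Morphisms into a scheme which is affine over the base

For an affine morphism `p : P ⟶ Y`, morphisms `T ⟶ P` over `Y` are the same as compatible families of
ring maps `Γ(P, p ⁻¹ U) ⟶ Γ(T, q ⁻¹ U)` over affine opens `U`.
-/

set_option autoImplicit false
set_option backward.isDefEq.respectTransparency false
set_option backward.defeqAttrib.useBackward true
set_option linter.style.haveILetI false

universe u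

open AlgebraicGeometry CategoryTheory CategoryTheory.Limits Opposite
open AlgebraicGeometry.Scheme AlgebraicGeometry.Scheme.AffineZariskiSite

namespace Groth.Agent.H7Lim.Approx

variable {P T Y : Scheme.{u}} (p : P ⟶ Y) (q : T ⟶ Y)

theorem preimage_le {g : T ⟶ P} (h : g ≫ p = q) (U : Y.Opens) : q ⁻¹ᵁ U ≤ g ⁻¹ᵁ (p ⁻¹ᵁ U) := by
  rw [← Scheme.Hom.comp_preimage, h]

/-- Morphisms over `Y` into an affine `Y`-scheme are determined by their sections. -/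
theorem hom_ext_app [IsAffineHom p] {g g' : T ⟶ P} (h : g ≫ p = q) (h' : g' ≫ p = q)
    (H : ∀ U : Y.affineOpens,
      g.appLE (p ⁻¹ᵁ U.1) (q ⁻¹ᵁ U.1) (preimage_le p q h _) =
        g'.appLE (p ⁻¹ᵁ U.1) (q ⁻¹ᵁ U.1) (preimage_le p q h' _)) : g = g' := by
  refine Scheme.Cover.hom_ext (T.openCoverOfIsOpenCover _
    (.comap (iSup_affineOpens_eq_top Y) q.base.hom)) _ _ fun U ↦ ?_
  have key : ∀ (k : T ⟶ P) (e : q ⁻¹ᵁ U.1 ≤ k ⁻¹ᵁ (p ⁻¹ᵁ U.1)), (q ⁻¹ᵁ U.1).ι ≫ k =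
      (q ⁻¹ᵁ U.1).toSpecΓ ≫ Spec.map (k.appLE _ _ e) ≫ (U.2.preimage p).fromSpec := by
    intro k e
    rw [Scheme.Opens.toSpecΓ_SpecMap_appLE_assoc, IsAffineOpen.toSpecΓ_fromSpec, Scheme.Hom.resLE_comp_ι]
  change (q ⁻¹ᵁ U.1).ι ≫ g = (q ⁻¹ᵁ U.1).ι ≫ g'
  rw [key g (preimage_le p q h _), key g' (preimage_le p q h' _), H U]

/-- A compatible family of ring maps over affine opens glues to a morphism. -/
theorem exists_hom_of_app [IsAffineHom p]
    (φ : ∀ U : Y.affineOpens, Γ(P, p ⁻¹ᵁ U.1) ⟶ Γ(T, q ⁻¹ᵁ U.1))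
    (hY : ∀ U : Y.affineOpens, p.app U.1 ≫ φ U = q.app U.1)
    (hnat : ∀ (U : Y.affineOpens) (r : Γ(Y, U.1)),
      φ U ≫ T.presheaf.map (homOfLE (q.preimage_mono (Y.basicOpen_le r))).op =
        P.presheaf.map (homOfLE (p.preimage_mono (Y.basicOpen_le r))).op ≫ φ ⟨Y.basicOpen r, U.2.basicOpen r⟩) :
    ∃ (g : T ⟶ P) (h : g ≫ p = q), ∀ U : Y.affineOpens,
      g.appLE (p ⁻¹ᵁ U.1) (q ⁻¹ᵁ U.1) (preimage_le p q h _) = φ U := by
  let m : ∀ U : Y.affineOpens, (q ⁻¹ᵁ U.1).toScheme ⟶ P := fun U ↦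
    (q ⁻¹ᵁ U.1).toSpecΓ ≫ Spec.map (φ U) ≫ (U.2.preimage p).fromSpec
  have hres : ∀ (U : Y.affineOpens) (r : Γ(Y, U.1)),
      T.homOfLE (q.preimage_mono (Y.basicOpen_le r)) ≫ m U = m ⟨Y.basicOpen r, U.2.basicOpen r⟩ := by
    intro U r
    simp only [m]
    rw [← Scheme.Opens.toSpecΓ_SpecMap_presheaf_map_assoc, ← Spec.map_comp_assoc, hnat U r,
      Spec.map_comp_assoc, (U.2.preimage p).map_fromSpec ((U.2.basicOpen r).preimage p)]
  let g : T ⟶ P := Scheme.OpenCover.glueMorphismsOfLocallyDirected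
    ((directedCover Y).pullback₁ q)
    (fun U ↦ (pullbackRestrictIsoRestrict q _).hom ≫ m ⟨U.1, U.2⟩) fun {U V : Y.AffineZariskiSite} i ↦ by
      have : (pullbackRestrictIsoRestrict q U.1).inv ≫
          Cover.trans ((directedCover Y).pullback₁ q) i ≫
          (pullbackRestrictIsoRestrict q V.1).hom = T.homOfLE
            (q.preimage_mono (toOpens_mono i.1.1)) := by
        rw [← cancel_mono (Scheme.Opens.ι _)]
        simp +instances [Cover.trans, Cover.locallyDirectedPullbackCover]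
      rw [← Iso.inv_comp_eq, reassoc_of% this]
      obtain ⟨U, hU⟩ := U
      obtain ⟨r, rfl⟩ : ∃ r : Γ(Y, V.1), Y.basicOpen r = U := i.1.1
      exact hres ⟨V.1, V.2⟩ r
  have hg : ∀ U : Y.affineOpens, (q ⁻¹ᵁ U.1).ι ≫ g = m U := by
    intro U
    rw [← cancel_epi (pullbackRestrictIsoRestrict q U.1).hom, ← Category.assoc]
    trans ((directedCover Y).pullback₁ q).f U ≫ g
    · congr 1; simp
    · exact Scheme.OpenCover.map_glueMorphismsOfLocallyDirected _ _ _ _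
  have hgp : g ≫ p = q := by
    refine Scheme.Cover.hom_ext (T.openCoverOfIsOpenCover _
      (.comap (iSup_affineOpens_eq_top Y) q.base.hom)) _ _ fun U ↦ ?_
    change (q ⁻¹ᵁ U.1).ι ≫ g ≫ p = (q ⁻¹ᵁ U.1).ι ≫ q
    rw [← Category.assoc, hg U]
    simp only [m, Category.assoc]
    rw [← IsAffineOpen.SpecMap_appLE_fromSpec p U.2 (U.2.preimage p) le_rfl, ← Spec.map_comp_assoc,
      ← Scheme.Hom.app_eq_appLE, hY U, Scheme.Hom.app_eq_appLE,
      Scheme.Opens.toSpecΓ_SpecMap_appLE_assoc, IsAffineOpen.toSpecΓ_fromSpec, Scheme.Hom.resLE_comp_ι]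
  refine ⟨g, hgp, fun U ↦ ?_⟩
  have e : q ⁻¹ᵁ U.1 ≤ g ⁻¹ᵁ (p ⁻¹ᵁ U.1) := preimage_le p q hgp _
  haveI : IsAffine (p ⁻¹ᵁ U.1).toScheme := U.2.preimage p
  have h1 : (q ⁻¹ᵁ U.1).toSpecΓ ≫ Spec.map (g.appLE _ _ e) = (q ⁻¹ᵁ U.1).toSpecΓ ≫ Spec.map (φ U) := by
    rw [← cancel_mono (U.2.preimage p).fromSpec, Category.assoc, Category.assoc,
      Scheme.Opens.toSpecΓ_SpecMap_appLE_assoc, IsAffineOpen.toSpecΓ_fromSpec, Scheme.Hom.resLE_comp_ι]
    exact hg U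
  have h2 := congr(Scheme.Hom.appTop $h1)
  simp only [Scheme.Hom.comp_appTop, Scheme.Opens.toSpecΓ_appTop] at h2
  rw [← Category.assoc, ← Category.assoc, Scheme.ΓSpecIso_naturality, Scheme.ΓSpecIso_naturality,
    Category.assoc, Category.assoc] at h2
  exact (cancel_mono _).1 ((cancel_epi _).1 h2)

end Groth.Agent.H7Lim.Approx
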