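import Groth.Agent.H7Lim.Approx.Consequences
import Groth.Agent.H7Lim.Proper.StructureMap

/-!
# Immersions into schemes of finite presentation over an arbitrary base
-/

set_option autoImplicit false
set_option backward.isDefEq.respectTransparency false
set_option backward.defeqAttrib.useBackward true
set_option linter.style.haveILetI false
set_option linter.unusedSectionVars false

universe u

open AlgebraicGeometry CategoryTheory CategoryTheory.Limits Opposite TopologicalSpace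
open AlgebraicGeometry.Scheme

namespace Groth.Agent.H7Lim.Approx

variable {I : Type u} [Category.{u} I] [IsCofiltered I] {D : I ⥤ Scheme.{u}} {c : Cone D}
  [∀ (i j : I) (f : i ⟶ j), IsAffineHom (D.map f)] [∀ i, CompactSpace (D.obj i)]
  [∀ i, QuasiSeparatedSpace (D.obj i)]

/-- An affine open of the limit comes from an affine open of a stage, compatibly with finitely many
sections. -/
theorem exists_affine_model (hc : IsLimit c) (i₀ : I) {U : c.pt.Opens} (hU : IsAffineOpen U)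
    (G : Finset Γ(c.pt, U)) :
    ∃ (i : I) (_ : i ⟶ i₀) (W : (D.obj i).Opens), IsAffineOpen W ∧
      ∃ h : c.π.app i ⁻¹ᵁ W = U, ∀ g ∈ G, ∃ w : Γ(D.obj i, W), (c.π.app i).appLE W U h.ge w = g := by
  classical
  obtain ⟨i, φ, V, hV, hV', e⟩ := exists_isCompact_isOpen_preimage_eq hc i₀ U.2 hU.isCompact
  let W : (D.obj i).Opens := ⟨V, hV⟩
  have hW : c.π.app i ⁻¹ᵁ W = U := Opens.ext e
  haveI : ∀ j : Over i, CompactSpace ((opensDiagram D i W).obj j) := fun j ↦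
    isCompact_iff_compactSpace.mp (QuasiCompact.isCompact_preimage _ W.2 hV')
  haveI : ∀ j : Over i, QuasiSeparatedSpace ((opensDiagram D i W).obj j) := fun j ↦
    (isQuasiSeparated_iff_quasiSeparatedSpace _ (D.map _ ⁻¹ᵁ _).2).mp (.of_quasiSeparatedSpace _)
  haveI : IsAffine (opensCone D c i W).pt := by
    show IsAffine (c.π.app i ⁻¹ᵁ W).toScheme
    rw [hW]; exact hU
  obtain ⟨k, hk⟩ := Scheme.exists_isAffine_of_isLimit _ _ (isLimitOpensCone D c hc i W)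
  let W₁ : (D.obj k.left).Opens := D.map k.hom ⁻¹ᵁ W
  have hW₁ : IsAffineOpen W₁ := hk
  have hW₁U : c.π.app k.left ⁻¹ᵁ W₁ = U := by
    rw [← Scheme.Hom.comp_preimage, c.w k.hom, hW]
  obtain ⟨j, ψ, t, ht⟩ := exists_secπ_eq_finite hc hW₁
    (fun g : G ↦ c.pt.presheaf.map (eqToHom hW₁U).op g.1)
  have hWj : c.π.app j ⁻¹ᵁ (D.map ψ ⁻¹ᵁ W₁) = U := by
    rw [← Scheme.Hom.comp_preimage, c.w ψ, hW₁U]
  refine ⟨j, ψ ≫ k.hom ≫ φ, D.map ψ ⁻¹ᵁ W₁, hW₁.preimage _, hWj, fun g hg ↦ ⟨t ⟨g, hg⟩, ?_⟩⟩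
  have := congr(c.pt.presheaf.map (eqToHom hW₁U.symm).op $(ht ⟨g, hg⟩))
  simp only [secπ, ← CommRingCat.comp_apply, Scheme.Hom.appLE_map, ← Functor.map_comp, ← op_comp,
    eqToHom_trans, eqToHom_refl, op_id, CategoryTheory.Functor.map_id] at this
  rw [CommRingCat.id_apply] at this
  refine Eq.trans ?_ this
  exact congr($(Scheme.Hom.appLE_map (c.π.app j) _ _) (t ⟨g, hg⟩)).symm

end Groth.Agent.H7Lim.Approx

namespace Groth.Agent.H7Lim.Approx

/-- **Immersion into a scheme of finite presentation**, over an arbitrary base. -/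
theorem exists_isImmersion_fp {X S : Scheme.{u}} (f : X ⟶ S) [LocallyOfFiniteType f]
    [CompactSpace X] [QuasiSeparatedSpace X] :
    ∃ (X' : Scheme.{u}) (f' : X' ⟶ S) (j : X ⟶ X'), LocallyOfFinitePresentation f' ∧ QuasiCompact f' ∧
      QuasiSeparated f' ∧ IsImmersion j ∧ j ≫ f' = f := by
  classical
  obtain ⟨Y, g, hg, hY, hYt⟩ := exists_affineHom_finiteType X
  haveI := quasiSeparatedSpace_of_toZ Y
  obtain ⟨hc⟩ := nonempty_isLimit_sysCone g
  let A := sys g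
  let cA : Cone A := sysCone g
  haveI : ∀ i, CompactSpace (A.obj i) := fun i ↦ inferInstanceAs (CompactSpace i.unop.spec)
  haveI : ∀ i, QuasiSeparatedSpace (A.obj i) := fun i ↦
    inferInstanceAs (QuasiSeparatedSpace i.unop.spec)
  haveI : ∀ (i j : (FGSub g)ᵒᵖ) (a : i ⟶ j), IsAffineHom (A.map a) := fun i j a ↦
    inferInstanceAs (IsAffineHom ((system g).map a).left)
  -- a finite cover by affine opens adapted to `S`
  let P := {U : X.affineOpens // ∃ V : S.affineOpens, U.1 ≤ f ⁻¹ᵁ V.1}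
  obtain ⟨T, hT⟩ := isCompact_univ.elim_finite_subcover
    (fun U : P ↦ ((U.1.1 : X.Opens) : Set X)) (fun U ↦ U.1.1.2) (fun x _ ↦ by
      obtain ⟨V, hV, hxV, -⟩ := exists_isAffineOpen_mem_and_subset
        (Set.mem_univ (f x)) (U := (⊤ : S.Opens))
      obtain ⟨U, hU, hxU, hUV⟩ := exists_isAffineOpen_mem_and_subset (x := x) (U := f ⁻¹ᵁ V) hxV
      exact Set.mem_iUnion.mpr ⟨⟨⟨U, hU⟩, ⟨V, hV⟩, hUV⟩, hxU⟩)
  choose V hUV using fun U : T ↦ U.1.2
  have hgen : ∀ U : T, ∃ G : Finset Γ(X, U.1.1.1), ∀ y, y ∈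
      Subring.closure (Set.range (f.appLE (V U).1 U.1.1.1 (hUV U)) ∪ ↑G) := by
    intro U
    have hft : (f.appLE (V U).1 U.1.1.1 (hUV U)).hom.FiniteType :=
      HasRingHomProperty.appLE (P := @LocallyOfFiniteType) f inferInstance (V U) U.1.1 (hUV U)
    letI := (f.appLE (V U).1 U.1.1.1 (hUV U)).hom.toAlgebra
    obtain ⟨G, hG⟩ := (show Algebra.FiniteType Γ(S, (V U).1) Γ(X, U.1.1.1) from hft).out
    refine ⟨G, fun y ↦ ?_⟩
    have hy : y ∈ (Algebra.adjoin Γ(S, (V U).1) (G : Set Γ(X, U.1.1.1))).toSubring := hG.ge trivial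
    rwa [Algebra.adjoin_eq_ring_closure] at hy
  choose G hG using hgen
  let i₀ : (FGSub g)ᵒᵖ := Classical.arbitrary _
  choose i a W hW hWU hWG using fun U : T ↦ exists_affine_model hc i₀ (U := (U.1.1.1 : X.Opens)) U.1.1.2 (G U)
  obtain ⟨n, ⟨e⟩⟩ := Finite.exists_equiv_fin T
  obtain ⟨k, φ, ψ, hψ⟩ := IsCofiltered.wideCospan fun m ↦ a (e.symm m)
  let q : ∀ U : T, k ⟶ i U := fun U ↦ ψ (e U) ≫ eqToHom (by rw [e.symm_apply_apply])
  let Xk := A.obj k
  haveI : LocallyOfFiniteType (toZ Xk) := by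
    show LocallyOfFiniteType (toZ k.unop.spec)
    rw [← toZ_eq (k.unop.proj ≫ toZ Y)]; infer_instance
  haveI := lfp_toZ Xk
  haveI : QuasiCompact (toZ Xk) := inferInstance
  haveI : QuasiSeparated (toZ Xk) := (quasiSeparated_iff_quasiSeparatedSpace _).mpr inferInstance
  let πk : X ⟶ Xk := cA.π.app k
  haveI : IsAffineHom πk := isAffineHom_π_app A cA hc k
  let j : X ⟶ pullback (toZ Xk) (toZ S) := pullback.lift πk f (specULiftZIsTerminal.hom_ext _ _)
  let fst : pullback (toZ Xk) (toZ S) ⟶ Xk := pullback.fst _ _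
  let snd : pullback (toZ Xk) (toZ S) ⟶ S := pullback.snd _ _
  let Wk : T → Xk.Opens := fun U ↦ A.map (q U) ⁻¹ᵁ W U
  have hWkU : ∀ U, πk ⁻¹ᵁ Wk U = U.1.1.1 := fun U ↦ by
    rw [← Scheme.Hom.comp_preimage]
    exact (congrArg (fun m ↦ m ⁻¹ᵁ W U) (cA.w (q U))).trans (hWU U)
  let O : T → (pullback (toZ Xk) (toZ S)).Opens := fun U ↦ fst ⁻¹ᵁ Wk U ⊓ snd ⁻¹ᵁ (V U).1
  have hjO : ∀ U, j ⁻¹ᵁ O U = U.1.1.1 := fun U ↦ by
    have h1 : ∀ B : Xk.Opens, j ⁻¹ᵁ (fst ⁻¹ᵁ B) = πk ⁻¹ᵁ B := fun B ↦ by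
      rw [← Scheme.Hom.comp_preimage, show j ≫ fst = πk from pullback.lift_fst _ _ _]
    have h2 : ∀ B : S.Opens, j ⁻¹ᵁ (snd ⁻¹ᵁ B) = f ⁻¹ᵁ B := fun B ↦ by
      rw [← Scheme.Hom.comp_preimage, show j ≫ snd = f from pullback.lift_snd _ _ _]
    show j ⁻¹ᵁ (fst ⁻¹ᵁ Wk U) ⊓ j ⁻¹ᵁ (snd ⁻¹ᵁ (V U).1) = _
    rw [h1, h2, hWkU, inf_eq_left]
    exact hUV U
  have hO : ∀ U, IsAffineOpen (O U) := fun U ↦ by
    haveI : IsAffine (Wk U).toScheme := (hW U).preimage (A.map (q U))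
    haveI : IsAffine (V U).1.toScheme := (V U).2
    let m := pullback.map ((Wk U).ι ≫ toZ Xk) ((V U).1.ι ≫ toZ S) (toZ Xk) (toZ S) (Wk U).ι (V U).1.ι
      (𝟙 _) (by simp) (by simp)
    have hm : m.opensRange = O U := by
      refine Opens.ext ?_
      show Set.range m = _
      rw [Scheme.Pullback.range_map, Scheme.Opens.range_ι, Scheme.Opens.range_ι]
      rfl
    rw [← hm]
    exact isAffineOpen_opensRange m
  -- surjectivity on the charts
  have hsurj : ∀ (U : T) (x : Γ(X, j ⁻¹ᵁ O U)), ∃ y, j.app (O U) y = x := by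
    intro U x
    suffices ∀ E (hE : E = U.1.1.1) (h : E ≤ j ⁻¹ᵁ O U) (x : Γ(X, E)), ∃ y, j.appLE (O U) E h y = x by
      obtain ⟨y, hy⟩ := this _ (hjO U) le_rfl x
      exact ⟨y, by rw [Scheme.Hom.app_eq_appLE]; exact hy⟩
    rintro E rfl h x
    let R := (j.appLE (O U) U.1.1.1 h).hom.range
    suffices x ∈ R from this
    refine (Subring.closure_le (t := R)).2 ?_ (hG U x)
    rintro z (⟨s, rfl⟩ | hz)
    · refine ⟨snd.appLE (V U).1 (O U) inf_le_right s, ?_⟩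
      simp only [← CommRingCat.comp_apply, Scheme.Hom.appLE_comp_appLE,
        show j ≫ snd = f from pullback.lift_snd _ _ _]
    · obtain ⟨w, hw⟩ := hWG U z hz
      refine ⟨fst.appLE (Wk U) (O U) inf_le_left ((A.map (q U)).app (W U) w), ?_⟩
      rw [← hw]
      simp only [← CommRingCat.comp_apply, Scheme.Hom.appLE_comp_appLE, Scheme.Hom.app_eq_appLE,
        show j ≫ fst = πk from pullback.lift_fst _ _ _]
      have e : ∀ {m m' : X ⟶ A.obj (i U)} (_ : m = m') (h₁ : U.1.1.1 ≤ m ⁻¹ᵁ W U) (h₂ : U.1.1.1 ≤ m' ⁻¹ᵁ W U),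
          m.appLE (W U) U.1.1.1 h₁ = m'.appLE (W U) U.1.1.1 h₂ := by rintro _ _ rfl _ _; rfl
      have hqU : πk ≫ A.map (q U) = cA.π.app (i U) := cA.w (q U)
      have hle : U.1.1.1 ≤ (πk ≫ A.map (q U)) ⁻¹ᵁ W U := by rw [hqU]; exact (hWU U).ge
      have h3 := congr($(Scheme.Hom.appLE_comp_appLE πk (A.map (q U)) (W U) (Wk U) U.1.1.1 le_rfl (hWkU U).ge) w)
      exact h3.trans congr($(e hqU hle _) w)
  -- the immersion
  let Ω := ⨆ U, O U
  have hr : Set.range j ⊆ Set.range Ω.ι := by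
    rw [Scheme.Opens.range_ι]
    rintro _ ⟨x, rfl⟩
    obtain ⟨U, hU, hx⟩ := Set.mem_iUnion₂.mp (hT (Set.mem_univ x))
    exact Opens.mem_iSup.mpr ⟨⟨U, hU⟩, (hjO ⟨U, hU⟩).ge hx⟩
  let k' := IsOpenImmersion.lift Ω.ι j hr
  have hk' : k' ≫ Ω.ι = j := IsOpenImmersion.lift_fac _ _ _
  let O' : T → Ω.toScheme.affineOpens := fun U ↦
    ⟨Ω.ι ⁻¹ᵁ O U, (hO U).preimage_of_isOpenImmersion _ (by
      rw [Scheme.Opens.opensRange_ι]; exact le_iSup O U)⟩
  have hcov : ⨆ U, (O' U).1 = ⊤ := by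
    rw [← top_le_iff]
    rintro ⟨x, hx⟩ -
    obtain ⟨U, hU⟩ := Opens.mem_iSup.mp hx
    exact Opens.mem_iSup.mpr ⟨U, hU⟩
  haveI : IsAffineHom k' := isAffineHom_of_forall_exists_isAffineOpen k' fun x ↦ by
    obtain ⟨U, hU⟩ := Opens.mem_iSup.mp (hcov.ge (Set.mem_univ x) : x ∈ ⨆ U, (O' U).1)
    refine ⟨_, hU, (O' U).2, ?_⟩
    rw [show k' ⁻¹ᵁ (O' U).1 = U.1.1.1 by
      show k' ⁻¹ᵁ (Ω.ι ⁻¹ᵁ O U) = _
      rw [← Scheme.Hom.comp_preimage, hk', hjO]]
    exact U.1.1.2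
  haveI : IsClosedImmersion k' := isClosedImmersion_of_cover k' O' hcov fun U x ↦ by
    have hle : j ⁻¹ᵁ O U = k' ⁻¹ᵁ (O' U).1 := by
      show _ = k' ⁻¹ᵁ (Ω.ι ⁻¹ᵁ O U)
      rw [← Scheme.Hom.comp_preimage, hk']
    obtain ⟨y, hy⟩ := hsurj U (X.presheaf.map (eqToHom hle).op x)
    refine ⟨Ω.ι.app (O U) y, ?_⟩
    have := congr(X.presheaf.map (eqToHom hle.symm).op $hy)
    simp only [← CommRingCat.comp_apply, ← Functor.map_comp, ← op_comp, eqToHom_trans, eqToHom_refl,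
      op_id, CategoryTheory.Functor.map_id, Scheme.Hom.app_eq_appLE, Scheme.Hom.appLE_map] at this
    rw [CommRingCat.id_apply] at this
    refine Eq.trans ?_ this
    simp only [O', ← CommRingCat.comp_apply, Scheme.Hom.app_eq_appLE, Scheme.Hom.appLE_comp_appLE, hk']
  haveI : IsImmersion j := by rw [← hk']; infer_instance
  exact ⟨_, snd, j, MorphismProperty.pullback_snd _ _ inferInstance,
    MorphismProperty.pullback_snd _ _ inferInstance, MorphismProperty.pullback_snd _ _ inferInstance,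
    inferInstance, pullback.lift_snd _ _ _⟩

end Groth.Agent.H7Lim.Approx
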