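import Groth.Agent.H7Lim.Approx.AbsoluteMain
import Groth.Agent.H18HTop.SpecLiftDVR

/-!
# Absolute approximation of a morphism of qcqs schemes
-/

set_option autoImplicit false
set_option backward.isDefEq.respectTransparency false
set_option backward.defeqAttrib.useBackward true
set_option linter.style.haveILetI false
set_option linter.unusedSectionVars false

universe u

open AlgebraicGeometry CategoryTheory CategoryTheory.Limits Opposite TopologicalSpace
open AlgebraicGeometry.Scheme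

namespace Groth.Agent.H7Lim.Approx

namespace Sub

variable {X Y : Scheme.{u}} {f : X ⟶ Y} {Q : Scheme.{u}} (q : Q ⟶ Y) [IsAffineHom q]
  (b : X ⟶ Q) (hb : b ≫ q = f)

/-- The subalgebra generated by an affine scheme over the base through which `f` factors. -/
noncomputable def ofFactor : Sub f where
  S U := (b.appLE (q ⁻¹ᵁ U.1) (f ⁻¹ᵁ U.1) (preimage_le q f hb _)).hom.range
  app_mem U s := ⟨q.app U.1 s, by
    rw [← CommRingCat.comp_apply, Scheme.Hom.app_eq_appLE, Scheme.Hom.app_eq_appLE,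
      Scheme.Hom.appLE_comp_appLE]
    simp only [hb]⟩
  res_mem U r := by
    rintro _ ⟨z, rfl⟩
    refine ⟨Q.presheaf.map (homOfLE (q.preimage_mono (Y.basicOpen_le r))).op z, ?_⟩
    simp only [bas, rX, ← CommRingCat.comp_apply, Scheme.Hom.map_appLE, Scheme.Hom.appLE_map]
  exists_mul U r := by
    rintro _ ⟨z, rfl⟩
    have hQ : IsAffineOpen (q ⁻¹ᵁ U.1) := U.2.preimage q
    haveI := hQ.isLocalization_basicOpen (q.app U.1 r)
    have e : q ⁻¹ᵁ Y.basicOpen r = Q.basicOpen (q.app U.1 r) := q.preimage_basicOpen r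
    obtain ⟨⟨w, _, n, rfl⟩, hw⟩ := IsLocalization.surj (Submonoid.powers (q.app U.1 r))
      (Q.presheaf.map (eqToHom e.symm).op z)
    refine ⟨n, _, ⟨w, rfl⟩, ?_⟩
    have h1 := congr(Q.presheaf.map (eqToHom e).op $hw)
    simp only [map_mul, RingHom.algebraMap_toAlgebra, map_pow] at h1
    simp only [← CommRingCat.comp_apply, ← Functor.map_comp, ← op_comp, eqToHom_trans, eqToHom_refl,
      op_id, CategoryTheory.Functor.map_id, CommRingCat.id_apply] at h1
    have h2 := congr(b.appLE (q ⁻¹ᵁ Y.basicOpen r) (f ⁻¹ᵁ Y.basicOpen r) (preimage_le q f hb _) $h1.symm)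
    simp only [map_mul, map_pow, ← CommRingCat.comp_apply, Category.assoc] at h2
    refine (Eq.trans ?_ h2).trans ?_
    · simp only [rX, ← CommRingCat.comp_apply, Scheme.Hom.appLE_map, Scheme.Hom.map_appLE]
    · congr 1
      simp only [rX, map_pow, ← CommRingCat.comp_apply, Category.assoc, Scheme.Hom.app_eq_appLE,
        Scheme.Hom.appLE_map, Scheme.Hom.map_appLE, Scheme.Hom.appLE_comp_appLE, hb]

theorem ofFactor_fgAt [LocallyOfFiniteType q] (U : Y.affineOpens) : (ofFactor q b hb).FGAt U := by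
  classical
  have hft : (q.app U.1).hom.FiniteType := by
    rw [Scheme.Hom.app_eq_appLE]
    exact HasRingHomProperty.appLE (P := @LocallyOfFiniteType) q inferInstance U
      ⟨q ⁻¹ᵁ U.1, U.2.preimage q⟩ _
  letI := (q.app U.1).hom.toAlgebra
  obtain ⟨G, hG⟩ := hft.out
  let β := (b.appLE (q ⁻¹ᵁ U.1) (f ⁻¹ᵁ U.1) (preimage_le q f hb _)).hom
  refine ⟨G.image β, ?_, ?_⟩
  · intro x hx
    obtain ⟨z, -, rfl⟩ := Finset.mem_image.mp hx
    exact ⟨z, rfl⟩
  · rintro _ ⟨z, rfl⟩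
    have hz : z ∈ Algebra.adjoin Γ(Y, U.1) (G : Set Γ(Q, q ⁻¹ᵁ U.1)) := hG.ge trivial
    change β z ∈ _
    induction hz using Algebra.adjoin_induction with
    | mem g hg =>
      simpa [rX_refl] using rX_mem_gen (f := f) (le_refl U.1) (Finset.mem_image_of_mem β hg)
    | algebraMap a =>
      have : β (algebraMap Γ(Y, U.1) Γ(Q, q ⁻¹ᵁ U.1) a) = f.app U.1 a := by
        simp only [β, RingHom.algebraMap_toAlgebra, ← CommRingCat.comp_apply, Scheme.Hom.app_eq_appLE,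
          Scheme.Hom.appLE_comp_appLE, hb]
      rw [this]
      exact app_mem_gen _ _
    | add x y _ _ hx hy => rw [map_add]; exact add_mem hx hy
    | mul x y _ _ hx hy => rw [map_mul]; exact mul_mem hx hy

theorem ofFactor_le_of_hom {Q' : Scheme.{u}} (q' : Q' ⟶ Y) [IsAffineHom q'] (b' : X ⟶ Q')
    (hb' : b' ≫ q' = f) (m : Q' ⟶ Q) (hm : m ≫ q = q') (hbm : b' ≫ m = b) :
    ofFactor q b hb ≤ ofFactor q' b' hb' := by
  rintro U _ ⟨z, rfl⟩
  refine ⟨m.appLE (q ⁻¹ᵁ U.1) (q' ⁻¹ᵁ U.1) (preimage_le q q' hm _) z, ?_⟩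
  rw [← CommRingCat.comp_apply, Scheme.Hom.appLE_comp_appLE]
  simp only [hbm]

end Sub

/-- The system projected along a monotone cofinal map is still a limit. -/
theorem initial_op_of_cofinal {I J : Type u} [Preorder I] [Preorder J] [IsDirected I (· ≤ ·)]
    [Nonempty I] (π : I → J) (hπ : Monotone π) (h : ∀ j, ∃ i, j ≤ π i) :
    Functor.Initial hπ.functor.op := by
  refine Functor.initial_of_exists_of_isCofiltered _ (fun d ↦ ?_) (fun {d c} s s' ↦ ?_)
  · obtain ⟨i, hi⟩ := h d.unop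
    exact ⟨op i, ⟨(homOfLE hi).op⟩⟩
  · exact ⟨c, 𝟙 c, Subsingleton.elim _ _⟩

variable {X S : Scheme.{u}} (f : X ⟶ S)

theorem lfp_toZ (Y : Scheme.{u}) [LocallyOfFiniteType (toZ Y)] :
    LocallyOfFinitePresentation (toZ Y) :=
  haveI : IsNoetherianRing (CommRingCat.of (ULift.{u} ℤ)) := isNoetherianRing_ulift_int
  H18HTop.locallyOfFinitePresentation_of_noetherian (toZ Y)

/-- Approximation of a morphism to a scheme of finite type over `ℤ`. -/
theorem exists_factor_finiteType [CompactSpace X] [QuasiSeparatedSpace X] {T : Scheme.{u}}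
    [LocallyOfFiniteType (toZ T)] (h : X ⟶ T) :
    ∃ (X₁ : Scheme.{u}) (a : X ⟶ X₁) (φ : X₁ ⟶ T), IsAffineHom a ∧ CompactSpace X₁ ∧
      LocallyOfFiniteType (toZ X₁) ∧ a ≫ φ = h := by
  obtain ⟨Y, g, hg, hY, hYt⟩ := exists_affineHom_finiteType X
  haveI := quasiSeparatedSpace_of_toZ Y
  obtain ⟨hc⟩ := nonempty_isLimit_sysCone g
  haveI : ∀ i, CompactSpace ((sys g).obj i) := fun i ↦ inferInstanceAs (CompactSpace i.unop.spec)
  haveI : ∀ i, QuasiSeparatedSpace ((sys g).obj i) := fun i ↦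
    inferInstanceAs (QuasiSeparatedSpace i.unop.spec)
  haveI : ∀ (i j : (FGSub g)ᵒᵖ) (a : i ⟶ j), IsAffineHom ((sys g).map a) := fun i j a ↦
    inferInstanceAs (IsAffineHom ((system g).map a).left)
  haveI := lfp_toZ T
  let t : sys g ⟶ (Functor.const _).obj (Spec (CommRingCat.of (ULift.{u} ℤ))) :=
    { app := fun j ↦ toZ _
      naturality := fun _ _ _ ↦ specULiftZIsTerminal.hom_ext _ _ }
  obtain ⟨k, φ, hφ, -⟩ := Scheme.exists_π_app_comp_eq_of_locallyOfFinitePresentation (sys g) t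
    (toZ T) (sysCone g) hc h (by ext j; exact specULiftZIsTerminal.hom_ext _ _)
  refine ⟨k.unop.spec, k.unop.toSpec, φ, ?_, inferInstance, ?_, hφ⟩
  · haveI : IsAffineHom (k.unop.toSpec ≫ k.unop.proj) := by rw [k.unop.toSpec_proj]; infer_instance
    exact MorphismProperty.of_postcomp @IsAffineHom k.unop.toSpec k.unop.proj
      (show IsSeparated k.unop.proj from inferInstance) ‹_›
  · rw [← toZ_eq (k.unop.proj ≫ toZ Y)]; infer_instance

variable {X₁ S₀ : Scheme.{u}} (a : X ⟶ X₁) (g : S ⟶ S₀) [IsAffineHom a] [IsAffineHom g]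
  (φ₀ : X₁ ⟶ S₀) (w : a ≫ φ₀ = f ≫ g)
  [CompactSpace X₁] [QuasiSeparatedSpace X₁] [CompactSpace S₀] [QuasiSeparatedSpace S₀]

/-- The base change of a stage of the base. -/
noncomputable def stageMap (μ : FGSub g) : X ⟶ pullback φ₀ μ.proj :=
  pullback.lift a (f ≫ μ.toSpec) (by rw [Category.assoc, FGSub.toSpec_proj, w])

include w in
theorem stageMap_fst (μ : FGSub g) : stageMap f a g φ₀ w μ ≫ pullback.fst φ₀ μ.proj = a :=
  pullback.lift_fst _ _ _

instance (μ : FGSub g) : IsAffineHom (pullback.fst φ₀ μ.proj) :=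
  MorphismProperty.pullback_fst _ _ (inferInstance : IsAffineHom μ.proj)

instance (μ : FGSub g) : LocallyOfFiniteType (pullback.fst φ₀ μ.proj) :=
  MorphismProperty.pullback_fst _ _ (inferInstance : LocallyOfFiniteType μ.proj)

/-- Indices of the approximation of `f`. -/
def PairIdx : Type u :=
  {p : FGSub g × FGSub a //
    Sub.ofFactor (pullback.fst φ₀ p.1.proj) (stageMap f a g φ₀ w p.1) (stageMap_fst f a g φ₀ w p.1)
      ≤ p.2.1}

instance : Preorder (PairIdx f a g φ₀ w) :=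
  inferInstanceAs (Preorder {p : FGSub g × FGSub a //
    Sub.ofFactor (pullback.fst φ₀ p.1.proj) (stageMap f a g φ₀ w p.1) (stageMap_fst f a g φ₀ w p.1)
      ≤ p.2.1})

/-- The least index above given stages. -/
noncomputable def PairIdx.mk' (μ : FGSub g) (T : FGSub a) : PairIdx f a g φ₀ w :=
  ⟨⟨μ, ⟨T.1.sup (Sub.ofFactor (pullback.fst φ₀ μ.proj) (stageMap f a g φ₀ w μ) (stageMap_fst f a g φ₀ w μ)),
    fun U ↦ Sub.sup_fgAt (T.2 U) (Sub.ofFactor_fgAt _ _ _ U)⟩⟩, T.1.le_sup_right' _⟩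

theorem PairIdx.exists_ge (p q : PairIdx f a g φ₀ w) : ∃ r, p ≤ r ∧ q ≤ r := by
  obtain ⟨μ, h1, h2⟩ := Approx.exists_ge g p.1.1 q.1.1
  obtain ⟨T, h3, h4⟩ := Approx.exists_ge a p.1.2 q.1.2
  exact ⟨PairIdx.mk' f a g φ₀ w μ T, ⟨h1, h3.trans (T.1.le_sup_left' _)⟩,
    ⟨h2, h4.trans (T.1.le_sup_left' _)⟩⟩

instance : IsDirected (PairIdx f a g φ₀ w) (fun x y ↦ x ≤ y) := ⟨PairIdx.exists_ge f a g φ₀ w⟩

instance : Nonempty (PairIdx f a g φ₀ w) :=
  ⟨PairIdx.mk' f a g φ₀ w (Classical.arbitrary _) (Classical.arbitrary _)⟩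

theorem exists_stageHom (p : PairIdx f a g φ₀ w) : ∃ ψ : p.1.2.spec ⟶ p.1.1.spec,
    ψ ≫ p.1.1.proj = p.1.2.proj ≫ φ₀ ∧ p.1.2.toSpec ≫ ψ = f ≫ p.1.1.toSpec := by
  obtain ⟨u, hu, hu'⟩ := p.1.2.isSpec.exists_hom (pullback.fst φ₀ p.1.1.proj)
    (stageMap f a g φ₀ w p.1.1) (stageMap_fst f a g φ₀ w p.1.1) p.2
  refine ⟨u ≫ pullback.snd _ _, ?_, ?_⟩
  · rw [Category.assoc, ← pullback.condition, reassoc_of% hu]
  · rw [reassoc_of% hu']
    exact pullback.lift_snd _ _ _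

theorem stageHom_ext {T : FGSub a} {μ : FGSub g} {ψ ψ' : T.spec ⟶ μ.spec}
    (h : ψ ≫ μ.proj = T.proj ≫ φ₀) (h' : ψ' ≫ μ.proj = T.proj ≫ φ₀)
    (e : T.toSpec ≫ ψ = T.toSpec ≫ ψ') : ψ = ψ' := by
  have := T.isSpec.hom_ext (pullback.fst φ₀ μ.proj) (g := pullback.lift T.proj ψ h.symm)
    (g' := pullback.lift T.proj ψ' h'.symm) (pullback.lift_fst _ _ _) (pullback.lift_fst _ _ _)
    (by apply pullback.hom_ext <;> simp [e])
  simpa using congr($this ≫ pullback.snd φ₀ μ.proj)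

include w in
/-- **Absolute approximation of a morphism**, from chosen models. -/
theorem exists_pair_system [LocallyOfFiniteType (toZ X₁)] [LocallyOfFiniteType (toZ S₀)] :
    ∃ (I : Type u) (_ : Preorder I) (_ : IsDirected I (fun a b => a ≤ b)) (_ : Nonempty I)
      (DX DS : Iᵒᵖ ⥤ Scheme.{u}) (φ : DX ⟶ DS)
      (cX : Limits.Cone DX) (cS : Limits.Cone DS) (_ : Limits.IsLimit cX) (_ : Limits.IsLimit cS)
      (eX : cX.pt ≅ X) (eS : cS.pt ≅ S),
      (∀ (i j : Iᵒᵖ) (a : i ⟶ j), IsAffineHom (DX.map a) ∧ IsAffineHom (DS.map a)) ∧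
      (∀ i, CompactSpace (DX.obj i) ∧ CompactSpace (DS.obj i) ∧
        LocallyOfFiniteType (toZ (DX.obj i)) ∧ LocallyOfFiniteType (toZ (DS.obj i))) ∧
      (∀ i, cX.π.app i ≫ φ.app i = eX.hom ≫ f ≫ eS.inv ≫ cS.π.app i) := by
  obtain ⟨hcS⟩ := nonempty_isLimit_sysCone g
  obtain ⟨hcX⟩ := nonempty_isLimit_sysCone a
  have hπ₁ : Monotone (fun p : PairIdx f a g φ₀ w ↦ p.1.1) := fun _ _ h ↦ h.1
  have hπ₂ : Monotone (fun p : PairIdx f a g φ₀ w ↦ p.1.2) := fun _ _ h ↦ h.2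
  haveI := initial_op_of_cofinal _ hπ₁ fun μ ↦
    ⟨PairIdx.mk' f a g φ₀ w μ (Classical.arbitrary _), le_rfl⟩
  haveI := initial_op_of_cofinal _ hπ₂ fun T ↦
    ⟨PairIdx.mk' f a g φ₀ w (Classical.arbitrary _) T, T.1.le_sup_left' _⟩
  choose ψ hψ hψ' using exists_stageHom f a g φ₀ w
  let DX := hπ₂.functor.op ⋙ sys a
  let DS := hπ₁.functor.op ⋙ sys g
  let φ : DX ⟶ DS :=
    { app := fun p ↦ ψ p.unop
      naturality := fun p q u ↦ by
        show FGSub.map (hπ₂ u.unop.le) ≫ ψ q.unop = ψ p.unop ≫ FGSub.map (hπ₁ u.unop.le)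
        refine stageHom_ext a g φ₀ ?_ ?_ ?_
        · rw [Category.assoc, hψ, FGSub.map_proj_assoc]
        · rw [Category.assoc, FGSub.map_proj, hψ]
        · rw [reassoc_of% (hψ' p.unop), FGSub.toSpec_map_assoc, hψ', FGSub.toSpec_map] }
  refine ⟨PairIdx f a g φ₀ w, inferInstance, inferInstance, inferInstance, DX, DS, φ,
    (sysCone a).whisker hπ₂.functor.op, (sysCone g).whisker hπ₁.functor.op,
    (Functor.Initial.isLimitWhiskerEquiv hπ₂.functor.op (sysCone a)).symm hcX,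
    (Functor.Initial.isLimitWhiskerEquiv hπ₁.functor.op (sysCone g)).symm hcS,
    Iso.refl _, Iso.refl _, fun i j u ↦ ⟨?_, ?_⟩, fun i ↦ ⟨?_, ?_, ?_, ?_⟩, fun i ↦ ?_⟩
  · exact inferInstanceAs (IsAffineHom (FGSub.map (hπ₂ u.unop.le)))
  · exact inferInstanceAs (IsAffineHom (FGSub.map (hπ₁ u.unop.le)))
  · exact inferInstanceAs (CompactSpace i.unop.1.2.spec)
  · exact inferInstanceAs (CompactSpace i.unop.1.1.spec)
  · show LocallyOfFiniteType (toZ i.unop.1.2.spec)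
    rw [← toZ_eq (i.unop.1.2.proj ≫ toZ X₁)]; infer_instance
  · show LocallyOfFiniteType (toZ i.unop.1.1.spec)
    rw [← toZ_eq (i.unop.1.1.proj ≫ toZ S₀)]; infer_instance
  · show i.unop.1.2.toSpec ≫ ψ i.unop = 𝟙 _ ≫ f ≫ 𝟙 _ ≫ i.unop.1.1.toSpec
    simp [hψ']

end Groth.Agent.H7Lim.Approx
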