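import Mathlib.AlgebraicGeometry.Morphisms.QuasiSeparated
import Mathlib.AlgebraicGeometry.Morphisms.Affine

/-!
# Quasi-coherent subalgebras of `f_* 𝒪_X` and extension of finite type subalgebras
-/

set_option autoImplicit false
set_option backward.isDefEq.respectTransparency false
set_option linter.style.haveILetI false

universe u

open AlgebraicGeometry CategoryTheory Opposite TopologicalSpace

namespace Groth.Agent.H7Lim.Approx

variable {X Y : Scheme.{u}} (f : X ⟶ Y)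

/-- Restriction of sections over preimages. -/
abbrev rX {U V : Y.Opens} (h : U ≤ V) : Γ(X, f ⁻¹ᵁ V) →+* Γ(X, f ⁻¹ᵁ U) :=
  (X.presheaf.map (homOfLE (f.preimage_mono h)).op).hom

/-- Restriction of sections of the base. -/
abbrev rY {U V : Y.Opens} (h : U ≤ V) : Γ(Y, V) →+* Γ(Y, U) := (Y.presheaf.map (homOfLE h).op).hom

theorem rX_rX {U V W : Y.Opens} (h : U ≤ V) (h' : V ≤ W) (x : Γ(X, f ⁻¹ᵁ W)) :
    rX f h (rX f h' x) = rX f (h.trans h') x := by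
  simp only [rX, ← RingHom.comp_apply, ← CommRingCat.hom_comp, ← Functor.map_comp]
  rfl

theorem rX_refl {U : Y.Opens} (x : Γ(X, f ⁻¹ᵁ U)) : rX f (le_refl U) x = x := by
  simp [rX]

theorem rX_app {U V : Y.Opens} (h : U ≤ V) (s : Γ(Y, V)) :
    rX f h (f.app V s) = f.app U (rY h s) := by
  exact congr($(f.naturality (homOfLE h).op) s).symm

/-- The basic affine open attached to a section. -/
abbrev bas (U : Y.affineOpens) (r : Γ(Y, U.1)) : Y.affineOpens := ⟨Y.basicOpen r, U.2.basicOpen r⟩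

theorem exists_inv (U : Y.affineOpens) (r : Γ(Y, U.1)) (n : ℕ) :
    ∃ v : Γ(Y, Y.basicOpen r),
      f.app (Y.basicOpen r) v * rX f (Y.basicOpen_le r) (f.app U.1 r ^ n) = 1 := by
  obtain ⟨v, hv⟩ := (((RingedSpace.isUnit_res_basicOpen _ r)).pow n).exists_left_inv
  refine ⟨v, ?_⟩
  rw [map_pow, rX_app, ← map_pow, ← map_mul]
  exact (congrArg _ hv).trans (map_one _)

theorem exists_pow_mul_eq [QuasiCompact f] [QuasiSeparated f] (U : Y.affineOpens) (r : Γ(Y, U.1))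
    {a b : Γ(X, f ⁻¹ᵁ U.1)} (h : rX f (Y.basicOpen_le r) a = rX f (Y.basicOpen_le r) b) :
    ∃ n : ℕ, f.app U.1 r ^ n * a = f.app U.1 r ^ n * b := by
  have hloc := isLocalization_basicOpen_of_qcqs (f.isCompact_preimage U.2.isCompact)
    (f.isQuasiSeparated_preimage U.2.isQuasiSeparated) (f.app U.1 r)
  have h' : X.presheaf.map (homOfLE (X.basicOpen_le (f.app U.1 r))).op a =
      X.presheaf.map (homOfLE (X.basicOpen_le (f.app U.1 r))).op b := by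
    have e : X.basicOpen (f.app U.1 r) ≤ f ⁻¹ᵁ Y.basicOpen r := (f.preimage_basicOpen r).ge
    have := congr(X.presheaf.map (homOfLE e).op $h)
    simp only [rX, ← CommRingCat.comp_apply, ← Functor.map_comp] at this
    exact this
  obtain ⟨⟨_, n, rfl⟩, hn⟩ := IsLocalization.exists_of_eq (M := Submonoid.powers (f.app U.1 r))
    (S := Γ(X, X.basicOpen (f.app U.1 r))) (x := a) (y := b) h'
  exact ⟨n, hn⟩

theorem mem_of_pow_cover (U : Y.affineOpens) (T : Subring Γ(X, f ⁻¹ᵁ U.1))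
    (hT : ∀ s, f.app U.1 s ∈ T) (x : Γ(X, f ⁻¹ᵁ U.1))
    (h : ∀ y ∈ U.1, ∃ (g : Γ(Y, U.1)) (n : ℕ), y ∈ Y.basicOpen g ∧ f.app U.1 g ^ n * x ∈ T) :
    x ∈ T := by
  let J : Ideal Γ(Y, U.1) :=
    { carrier := {s | f.app U.1 s * x ∈ T}
      add_mem' := fun {a b} ha hb ↦ by
        show f.app U.1 (a + b) * x ∈ T
        rw [map_add, add_mul]; exact add_mem ha hb
      zero_mem' := by
        show f.app U.1 0 * x ∈ T
        rw [map_zero, zero_mul]; exact zero_mem _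
      smul_mem' := fun c a ha ↦ by
        show f.app U.1 (c * a) * x ∈ T
        rw [map_mul, mul_assoc]; exact mul_mem (hT c) ha }
  have hJ : J.radical = ⊤ := by
    rw [← Ideal.span_eq J.radical, ← U.2.iSup_basicOpen_eq_self_iff]
    refine le_antisymm (iSup_le fun g ↦ Y.basicOpen_le _) fun y hy ↦ ?_
    obtain ⟨g, n, hyg, hg⟩ := h y hy
    refine Opens.mem_iSup.mpr ⟨⟨g, n, ?_⟩, hyg⟩
    show f.app U.1 (g ^ n) * x ∈ T
    rwa [map_pow]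
  have h1 : (1 : Γ(Y, U.1)) ∈ J := (Ideal.eq_top_iff_one _).mp (Ideal.radical_eq_top.mp hJ)
  simpa [J] using h1

/-- The algebra generated over `B` by restrictions of a set of sections over `V`. -/
def gen (V : Y.Opens) (t : Set Γ(X, f ⁻¹ᵁ V)) (B : Y.Opens) (h : B ≤ V) :
    Subring Γ(X, f ⁻¹ᵁ B) :=
  Subring.closure (Set.range (f.app B) ∪ rX f h '' t)

variable {f} in
theorem app_mem_gen {V : Y.Opens} {t : Set Γ(X, f ⁻¹ᵁ V)} {B : Y.Opens} (h : B ≤ V) (s : Γ(Y, B)) :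
    f.app B s ∈ gen f V t B h :=
  Subring.subset_closure (Or.inl ⟨s, rfl⟩)

variable {f} in
theorem rX_mem_gen {V : Y.Opens} {t : Set Γ(X, f ⁻¹ᵁ V)} {B : Y.Opens} (h : B ≤ V)
    {x : Γ(X, f ⁻¹ᵁ V)} (hx : x ∈ t) : rX f h x ∈ gen f V t B h :=
  Subring.subset_closure (Or.inr ⟨x, hx, rfl⟩)

variable {f} in
theorem gen_mono {V : Y.Opens} {t t' : Set Γ(X, f ⁻¹ᵁ V)} (h : t ⊆ t') {B : Y.Opens} {hB : B ≤ V} :
    gen f V t B hB ≤ gen f V t' B hB :=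
  Subring.closure_mono (Set.union_subset_union_right _ (Set.image_mono h))

theorem map_gen_le {V : Y.Opens} (t : Set Γ(X, f ⁻¹ᵁ V)) {B C : Y.Opens} (h : B ≤ V) (h' : C ≤ B) :
    (gen f V t B h).map (rX f h') ≤ gen f V t C (h'.trans h) := by
  rw [gen, RingHom.map_closure, Subring.closure_le]
  rintro _ ⟨x, ⟨s, rfl⟩ | ⟨y, hy, rfl⟩, rfl⟩
  · rw [rX_app]; exact app_mem_gen _ _
  · rw [rX_rX]; exact rX_mem_gen _ hy

theorem exists_mul_gen {V : Y.Opens} (t : Set Γ(X, f ⁻¹ᵁ V)) (B : Y.affineOpens) (h : B.1 ≤ V)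
    (r : Γ(Y, B.1)) {x : Γ(X, f ⁻¹ᵁ Y.basicOpen r)}
    (hx : x ∈ gen f V t (Y.basicOpen r) ((Y.basicOpen_le r).trans h)) :
    ∃ (n : ℕ) (a : Γ(X, f ⁻¹ᵁ B.1)), a ∈ gen f V t B.1 h ∧
      rX f (Y.basicOpen_le r) a = x * rX f (Y.basicOpen_le r) (f.app B.1 r ^ n) := by
  refine Subring.closure_induction (p := fun x _ ↦ ∃ (n : ℕ) (a : Γ(X, f ⁻¹ᵁ B.1)), a ∈ gen f V t B.1 h ∧
    rX f (Y.basicOpen_le r) a = x * rX f (Y.basicOpen_le r) (f.app B.1 r ^ n)) ?_ ?_ ?_ ?_ ?_ ?_ hx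
  · rintro _ (⟨s, rfl⟩ | ⟨y, hy, rfl⟩)
    · have := B.2.isLocalization_basicOpen r
      obtain ⟨⟨b, _, n, rfl⟩, hb⟩ := IsLocalization.surj (Submonoid.powers r) s
      refine ⟨n, f.app B.1 b, app_mem_gen _ _, ?_⟩
      rw [rX_app, map_pow, rX_app, ← map_pow, ← map_mul, ← map_pow]
      exact congrArg _ hb.symm
    · exact ⟨0, rX f h y, rX_mem_gen _ hy, by simp [rX_rX]⟩
  · exact ⟨0, 0, zero_mem _, by simp⟩
  · exact ⟨0, 1, one_mem _, by simp⟩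
  · rintro x y _ _ ⟨n, a, ha, e⟩ ⟨m, b, hb, e'⟩
    refine ⟨n + m, a * f.app B.1 (r ^ m) + b * f.app B.1 (r ^ n),
      add_mem (mul_mem ha (app_mem_gen _ _)) (mul_mem hb (app_mem_gen _ _)), ?_⟩
    simp only [map_add, map_mul, map_pow, e, e', pow_add]
    ring
  · rintro x _ ⟨n, a, ha, e⟩
    exact ⟨n, -a, neg_mem ha, by simp [e]⟩
  · rintro x y _ _ ⟨n, a, ha, e⟩ ⟨m, b, hb, e'⟩
    refine ⟨n + m, a * b, mul_mem ha hb, ?_⟩
    simp only [map_mul, e, e', map_pow, pow_add]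
    ring

theorem mem_gen_of_cover [QuasiCompact f] [QuasiSeparated f] {V : Y.Opens}
    (t : Set Γ(X, f ⁻¹ᵁ V)) (B : Y.affineOpens) (h : B.1 ≤ V) (x : Γ(X, f ⁻¹ᵁ B.1))
    (hx : ∀ y ∈ B.1, ∃ g : Γ(Y, B.1), y ∈ Y.basicOpen g ∧
      rX f (Y.basicOpen_le g) x ∈ gen f V t (Y.basicOpen g) ((Y.basicOpen_le g).trans h)) :
    x ∈ gen f V t B.1 h := by
  refine mem_of_pow_cover f B _ (app_mem_gen h) x fun y hy ↦ ?_
  obtain ⟨g, hyg, hg⟩ := hx y hy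
  obtain ⟨n, a, ha, e⟩ := exists_mul_gen f t B h g hg
  rw [← map_mul] at e
  obtain ⟨m, hm⟩ := exists_pow_mul_eq f B g e
  refine ⟨g, m + n, hyg, ?_⟩
  have : f.app B.1 g ^ (m + n) * x = f.app B.1 (g ^ m) * a := by rw [map_pow, hm, pow_add]; ring
  rw [this]
  exact mul_mem (app_mem_gen _ _) ha

/-- A quasi-coherent subalgebra of `f_* 𝒪_X`. -/
structure Sub where
  /-- The subalgebra over each affine open. -/
  S : ∀ U : Y.affineOpens, Subring Γ(X, f ⁻¹ᵁ U.1)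
  app_mem : ∀ (U : Y.affineOpens) (s : Γ(Y, U.1)), f.app U.1 s ∈ S U
  res_mem : ∀ (U : Y.affineOpens) (r : Γ(Y, U.1)), ∀ x ∈ S U, rX f (Y.basicOpen_le r) x ∈ S (bas U r)
  exists_mul : ∀ (U : Y.affineOpens) (r : Γ(Y, U.1)), ∀ x ∈ S (bas U r), ∃ (n : ℕ), ∃ a ∈ S U,
    rX f (Y.basicOpen_le r) a = x * rX f (Y.basicOpen_le r) (f.app U.1 r ^ n)

namespace Sub

variable {f}

instance : PartialOrder (Sub f) :=
  PartialOrder.lift Sub.S fun ⟨_, _, _, _⟩ ⟨_, _, _, _⟩ h ↦ by cases h; rfl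

theorem le_iff {J K : Sub f} : J ≤ K ↔ ∀ U, J.S U ≤ K.S U := Iff.rfl

variable [QuasiCompact f] [QuasiSeparated f] (J : Sub f)

theorem mem_of_cover (U : Y.affineOpens) (x : Γ(X, f ⁻¹ᵁ U.1))
    (hx : ∀ y ∈ U.1, ∃ g : Γ(Y, U.1), y ∈ Y.basicOpen g ∧ rX f (Y.basicOpen_le g) x ∈ J.S (bas U g)) :
    x ∈ J.S U := by
  refine mem_of_pow_cover f U _ (J.app_mem U) x fun y hy ↦ ?_
  obtain ⟨g, hyg, hg⟩ := hx y hy
  obtain ⟨n, a, ha, e⟩ := J.exists_mul U g _ hg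
  rw [← map_mul] at e
  obtain ⟨m, hm⟩ := exists_pow_mul_eq f U g e
  refine ⟨g, m + n, hyg, ?_⟩
  have : f.app U.1 g ^ (m + n) * x = f.app U.1 (g ^ m) * a := by rw [map_pow, hm, pow_add]; ring
  rw [this]
  exact mul_mem (J.app_mem _ _) ha

theorem map_rX_le {U V : Y.affineOpens} (h : U.1 ≤ V.1) {x : Γ(X, f ⁻¹ᵁ V.1)} (hx : x ∈ J.S V) :
    rX f h x ∈ J.S U := by
  refine J.mem_of_cover U _ fun y hy ↦ ?_
  obtain ⟨g, g', hgg, hyg⟩ := exists_basicOpen_le_affine_inter U.2 V.2 y ⟨hy, h hy⟩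
  refine ⟨g, hyg, ?_⟩
  have key : ∀ (B : Y.affineOpens) (hB : B.1 ≤ V.1) (_ : B = bas V g'), rX f hB x ∈ J.S B := by
    rintro _ hB rfl
    exact J.res_mem V g' x hx
  rw [rX_rX]
  exact key _ _ (Subtype.ext hgg)

theorem le_gen {U V : Y.affineOpens} (h : U.1 ≤ V.1) {x : Γ(X, f ⁻¹ᵁ U.1)} (hx : x ∈ J.S U) :
    x ∈ gen f V.1 (J.S V) U.1 h := by
  refine mem_gen_of_cover f _ U h x fun y hy ↦ ?_
  obtain ⟨g, g', hgg, hyg⟩ := exists_basicOpen_le_affine_inter U.2 V.2 y ⟨hy, h hy⟩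
  refine ⟨g, hyg, ?_⟩
  have key : ∀ (B : Y.affineOpens) (hB : B.1 ≤ V.1) (_ : B = bas V g') (z : Γ(X, f ⁻¹ᵁ B.1)),
      z ∈ J.S B → z ∈ gen f V.1 (J.S V) B.1 hB := by
    rintro _ hB rfl z hz
    obtain ⟨n, a, ha, e⟩ := J.exists_mul V g' z hz
    obtain ⟨v, hv⟩ := exists_inv f V g' n
    have : z = rX f (Y.basicOpen_le g') a * f.app (Y.basicOpen g') v := by
      rw [e, mul_assoc, mul_comm (rX f _ _) (f.app _ v), hv, mul_one]
    rw [this]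
    exact mul_mem (rX_mem_gen hB ha) (app_mem_gen _ _)
  exact key (bas U g) _ (Subtype.ext hgg) _ (J.res_mem U g x hx)

/-- Finite type. -/
def FGAt (U : Y.affineOpens) : Prop :=
  ∃ t : Finset Γ(X, f ⁻¹ᵁ U.1), (t : Set Γ(X, f ⁻¹ᵁ U.1)) ⊆ J.S U ∧
    J.S U ≤ gen f U.1 t U.1 le_rfl

theorem exists_fg_gen_bas (U : Y.affineOpens) (g : Γ(Y, U.1)) (hg : J.FGAt (bas U g)) :
    ∃ t : Finset Γ(X, f ⁻¹ᵁ U.1), (t : Set Γ(X, f ⁻¹ᵁ U.1)) ⊆ J.S U ∧
      J.S (bas U g) ≤ gen f U.1 t (Y.basicOpen g) (Y.basicOpen_le g) := by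
  classical
  obtain ⟨s, hs, hs'⟩ := hg
  choose n a ha e using fun z : s ↦ J.exists_mul U g z.1 (hs z.2)
  refine ⟨Finset.univ.image a, ?_, hs'.trans ?_⟩
  · intro x hx
    obtain ⟨z, -, rfl⟩ := Finset.mem_image.mp hx
    exact ha z
  · rw [gen, Subring.closure_le]
    rintro _ (⟨b, rfl⟩ | ⟨z, hz, rfl⟩)
    · exact app_mem_gen _ _
    obtain ⟨v, hv⟩ := exists_inv f U g (n ⟨z, hz⟩)
    rw [rX_refl, show z = rX f (Y.basicOpen_le g) (a ⟨z, hz⟩) * f.app (Y.basicOpen g) v by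
      rw [e, mul_assoc, mul_comm (rX f _ _) (f.app _ v), hv, mul_one]]
    exact mul_mem (rX_mem_gen _ (Finset.mem_image_of_mem _ (Finset.mem_univ _))) (app_mem_gen _ _)

theorem fg_of_cover (U : Y.affineOpens)
    (h : ∀ y ∈ U.1, ∃ g : Γ(Y, U.1), y ∈ Y.basicOpen g ∧ J.FGAt (bas U g)) : J.FGAt U := by
  classical
  let P := {g : Γ(Y, U.1) // J.FGAt (bas U g)}
  obtain ⟨H, hH⟩ := U.2.isCompact.elim_finite_subcover (fun g : P ↦ (Y.basicOpen g.1 : Set Y))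
    (fun g ↦ (Y.basicOpen g.1).2) (fun y hy ↦ by
      obtain ⟨g, hyg, hg⟩ := h y hy
      exact Set.mem_iUnion.mpr ⟨⟨g, hg⟩, hyg⟩)
  choose t ht htg using fun g : P ↦ J.exists_fg_gen_bas U g.1 g.2
  refine ⟨H.biUnion t, ?_, fun x hx ↦ mem_gen_of_cover f _ U le_rfl x fun y hy ↦ ?_⟩
  · intro x hx
    obtain ⟨g, -, hxg⟩ := Finset.mem_biUnion.mp hx
    exact ht g hxg
  · obtain ⟨g, hgH, hyg⟩ : ∃ g ∈ H, y ∈ Y.basicOpen g.1 := by simpa using hH hy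
    refine ⟨g.1, hyg, ?_⟩
    exact Subring.closure_mono (Set.union_subset_union_right _ (Set.image_mono
      (fun z hz ↦ Finset.mem_biUnion.mpr ⟨g, hgH, hz⟩))) (htg g (J.res_mem U g.1 x hx))

variable [QuasiSeparatedSpace Y]

/-- Cut `J` down to the algebra generated by `t` over `V`. -/
def cut (V : Y.affineOpens) (t : Set Γ(X, f ⁻¹ᵁ V.1)) : Sub f where
  S A :=
    { carrier := {a | a ∈ J.S A ∧ ∀ (B : Y.affineOpens) (hA : B.1 ≤ A.1) (hV : B.1 ≤ V.1),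
        rX f hA a ∈ gen f V.1 t B.1 hV}
      mul_mem' := fun ha hb ↦ ⟨mul_mem ha.1 hb.1, fun B hA hV ↦ by
        rw [map_mul]; exact mul_mem (ha.2 B hA hV) (hb.2 B hA hV)⟩
      one_mem' := ⟨one_mem _, fun B hA hV ↦ by rw [map_one]; exact one_mem _⟩
      add_mem' := fun ha hb ↦ ⟨add_mem ha.1 hb.1, fun B hA hV ↦ by
        rw [map_add]; exact add_mem (ha.2 B hA hV) (hb.2 B hA hV)⟩
      zero_mem' := ⟨zero_mem _, fun B hA hV ↦ by rw [map_zero]; exact zero_mem _⟩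
      neg_mem' := fun ha ↦ ⟨neg_mem ha.1, fun B hA hV ↦ by
        rw [map_neg]; exact neg_mem (ha.2 B hA hV)⟩ }
  app_mem A s := ⟨J.app_mem A s, fun B hA hV ↦ by rw [rX_app]; exact app_mem_gen _ _⟩
  res_mem A r x hx := ⟨J.res_mem A r x hx.1, fun B hA hV ↦ by
    rw [rX_rX]; exact hx.2 B (hA.trans (Y.basicOpen_le r)) hV⟩
  exists_mul A r x hx := by
    classical
    obtain ⟨n, j, hj, hjn⟩ := J.exists_mul A r x hx.1
    have hcpt : IsCompact ((A.1 ⊓ V.1 : Y.Opens) : Set Y) :=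
      A.2.isCompact.inter_of_isOpen V.2.isCompact A.1.2 V.1.2
    obtain ⟨S, hS, hSeq⟩ := isCompact_iff_finite_and_eq_biUnion_affineOpens.1 hcpt
    have hB : ∀ B ∈ S, ∃ N : ℕ, ∀ (hA : B.1 ≤ A.1) (hV : B.1 ≤ V.1),
        rX f hA (f.app A.1 r ^ N * j) ∈ gen f V.1 t B.1 hV := by
      intro B hBS
      have hle : B.1 ≤ A.1 ⊓ V.1 := (le_iSup₂ B hBS).trans_eq hSeq.symm
      have hA : B.1 ≤ A.1 := hle.trans inf_le_left
      have hV : B.1 ≤ V.1 := hle.trans inf_le_right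
      have hDle : Y.basicOpen (rY hA r) ≤ Y.basicOpen r := by
        show Y.basicOpen (Y.presheaf.map (homOfLE hA).op r) ≤ _
        rw [Scheme.basicOpen_res]
        exact inf_le_right
      have h2 := hx.2 (bas B (rY hA r)) hDle ((Y.basicOpen_le _).trans hV)
      have h3 : rX f (Y.basicOpen_le (rY hA r)) (rX f hA j) ∈
          gen f V.1 t (Y.basicOpen (rY hA r)) ((Y.basicOpen_le _).trans hV) := by
        rw [rX_rX, ← rX_rX f hDle (Y.basicOpen_le r), hjn, map_mul]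
        refine mul_mem h2 ?_
        rw [← map_pow, rX_app, rX_app]
        exact app_mem_gen _ _
      obtain ⟨N, a, ha, e⟩ := exists_mul_gen f t B hV _ h3
      rw [← map_mul] at e
      obtain ⟨m, hm⟩ := exists_pow_mul_eq f B _ e
      refine ⟨m + N, fun _ _ ↦ ?_⟩
      have : rX f hA (f.app A.1 r ^ (m + N) * j) = f.app B.1 (rY hA r ^ m) * a := by
        rw [map_pow, hm, map_mul, map_pow, rX_app, pow_add]; ring
      rw [this]
      exact mul_mem (app_mem_gen _ _) ha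
    choose! N hN using hB
    let M := ∑ B ∈ hS.toFinset, N B
    refine ⟨M + n, f.app A.1 r ^ M * j, ⟨mul_mem (pow_mem (J.app_mem A r) _) hj, fun B hA hV ↦ ?_⟩,
      by rw [map_mul, hjn, pow_add, map_mul]; ring⟩
    refine mem_gen_of_cover f t B hV _ fun y hy ↦ ?_
    have hyAV : y ∈ A.1 ⊓ V.1 := ⟨hA hy, hV hy⟩
    rw [hSeq] at hyAV
    obtain ⟨B', hB', hyB'⟩ : ∃ B' ∈ S, y ∈ B'.1 := by simpa [Opens.mem_iSup] using hyAV
    obtain ⟨g, hg, hyg⟩ := B.2.exists_basicOpen_le ⟨y, hyB'⟩ hy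
    refine ⟨g, hyg, ?_⟩
    have hle : B'.1 ≤ A.1 ⊓ V.1 := (le_iSup₂ B' hB').trans_eq hSeq.symm
    have h1 : rX f (hle.trans inf_le_left) (f.app A.1 r ^ M * j) ∈
        gen f V.1 t B'.1 (hle.trans inf_le_right) := by
      obtain ⟨d, hd⟩ : ∃ d, M = d + N B' := ⟨M - N B', (Nat.sub_add_cancel
        (Finset.single_le_sum (f := N) (fun _ _ => Nat.zero_le _) (hS.mem_toFinset.2 hB'))).symm⟩
      rw [hd, pow_add, mul_assoc, map_mul]
      refine mul_mem ?_ (hN B' hB' _ _)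
      rw [← map_pow, rX_app]
      exact app_mem_gen _ _
    have h2 := map_gen_le f t _ hg ⟨_, h1, rfl⟩
    rw [rX_rX] at h2
    rw [rX_rX]
    exact h2

theorem cut_le (V : Y.affineOpens) (t : Set Γ(X, f ⁻¹ᵁ V.1)) : J.cut V t ≤ J := fun _ _ ha ↦ ha.1

theorem gen_le_cut (V : Y.affineOpens) {t : Set Γ(X, f ⁻¹ᵁ V.1)} (ht : t ⊆ J.S V) :
    gen f V.1 t V.1 le_rfl ≤ (J.cut V t).S V := by
  rw [gen, Subring.closure_le]
  rintro _ (⟨s, rfl⟩ | ⟨x, hx, rfl⟩)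
  · exact (J.cut V t).app_mem V s
  · rw [rX_refl]
    exact ⟨ht hx, fun B hA hV ↦ rX_mem_gen hV hx⟩

theorem cut_le_gen (V : Y.affineOpens) (t : Set Γ(X, f ⁻¹ᵁ V.1)) :
    (J.cut V t).S V ≤ gen f V.1 t V.1 le_rfl := fun x hx ↦ by
  simpa [rX_refl] using hx.2 V le_rfl le_rfl

/-- One step: given `J` of finite type on `W`, find `J' ≤ J` of finite type on `W ⊔ V`, equal to `J`
on `W`, and containing given sections over `V`. -/
theorem exists_step (W : Y.Opens) (hW : IsCompact (W : Set Y))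
    (hJ : ∀ A : Y.affineOpens, A.1 ≤ W → J.FGAt A) (V : Y.affineOpens)
    (s : Finset Γ(X, f ⁻¹ᵁ V.1)) (hs : (s : Set Γ(X, f ⁻¹ᵁ V.1)) ⊆ J.S V) :
    ∃ J' ≤ J, (∀ A : Y.affineOpens, A.1 ≤ W → J'.S A = J.S A) ∧
      (∀ A : Y.affineOpens, A.1 ≤ W ⊔ V.1 → J'.FGAt A) ∧
      (s : Set Γ(X, f ⁻¹ᵁ V.1)) ⊆ J'.S V := by
  classical
  have hcpt : IsCompact ((W ⊓ V.1 : Y.Opens) : Set Y) := hW.inter_of_isOpen V.2.isCompact W.2 V.1.2
  let P := {h : Γ(Y, V.1) // Y.basicOpen h ≤ W ⊓ V.1}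
  obtain ⟨H, hH⟩ := hcpt.elim_finite_subcover (fun h : P ↦ (Y.basicOpen h.1 : Set Y))
    (fun h ↦ (Y.basicOpen h.1).2) (fun y hy ↦ by
      obtain ⟨g, hg, hyg⟩ := V.2.exists_basicOpen_le (V := W ⊓ V.1) ⟨y, hy⟩ hy.2
      exact Set.mem_iUnion.2 ⟨⟨g, hg⟩, hyg⟩)
  choose t htJ htgen using fun h : P ↦
    J.exists_fg_gen_bas V h.1 (hJ (bas V h.1) (h.2.trans inf_le_left))
  let T : Finset Γ(X, f ⁻¹ᵁ V.1) := s ∪ H.biUnion t
  have hTJ : (T : Set Γ(X, f ⁻¹ᵁ V.1)) ⊆ J.S V := by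
    intro x hx
    rcases Finset.mem_union.mp hx with hx | hx
    · exact hs hx
    · obtain ⟨h, -, hx⟩ := Finset.mem_biUnion.1 hx
      exact htJ h hx
  have hkey : ∀ (A : Y.affineOpens), A.1 ≤ W → (J.cut V T).S A = J.S A := by
    intro A hA
    refine le_antisymm (fun a ha ↦ ha.1) fun a ha ↦ ⟨ha, fun B hBA hBV ↦ ?_⟩
    refine mem_gen_of_cover f _ B hBV _ fun y hy ↦ ?_
    obtain ⟨h, hhH, hyh⟩ : ∃ h ∈ H, y ∈ Y.basicOpen h.1 := by
      have := hH (show y ∈ ((W ⊓ V.1 : Y.Opens) : Set Y) from ⟨hA (hBA hy), hBV hy⟩)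
      simpa using this
    obtain ⟨g, hg, hyg⟩ := B.2.exists_basicOpen_le ⟨y, hyh⟩ hy
    refine ⟨g, hyg, ?_⟩
    have h1 : rX f (Y.basicOpen_le g) (rX f hBA a) ∈ J.S (bas B g) :=
      J.res_mem B g _ (J.map_rX_le hBA ha)
    have h2 := J.le_gen (U := bas B g) (V := bas V h.1) hg h1
    refine (show _ ≤ gen f V.1 (↑T) (Y.basicOpen g) (hg.trans (Y.basicOpen_le h.1)) from ?_) h2
    rw [gen, Subring.closure_le]
    rintro _ (⟨b, rfl⟩ | ⟨z, hz, rfl⟩)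
    · exact app_mem_gen _ _
    · have hz' : z ∈ gen f V.1 (T : Set Γ(X, f ⁻¹ᵁ V.1)) (Y.basicOpen h.1) (Y.basicOpen_le h.1) :=
        gen_mono (fun w hw ↦ Finset.mem_union_right _ (Finset.mem_biUnion.2 ⟨h, hhH, hw⟩)) (htgen h hz)
      exact map_gen_le f (T : Set Γ(X, f ⁻¹ᵁ V.1)) (Y.basicOpen_le h.1) hg
        (Subring.mem_map.mpr ⟨z, hz', rfl⟩)
  have hTgen : ∀ x ∈ T, x ∈ gen f V.1 (T : Set Γ(X, f ⁻¹ᵁ V.1)) V.1 le_rfl := fun x hx ↦
    Subring.subset_closure (Or.inr ⟨x, hx, rX_refl f x⟩)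
  refine ⟨J.cut V T, J.cut_le V T, hkey, fun A hA ↦ ?_, fun x hx ↦
    J.gen_le_cut V hTJ (hTgen x (Finset.mem_union_left _ hx))⟩
  refine fg_of_cover _ A fun y hy ↦ ?_
  rcases hA hy with hyW | hyV
  · obtain ⟨g, hg, hyg⟩ := A.2.exists_basicOpen_le ⟨y, hyW⟩ hy
    refine ⟨g, hyg, ?_⟩
    obtain ⟨t', h1, h2⟩ := hJ (bas A g) hg
    exact ⟨t', (hkey (bas A g) hg).symm ▸ h1, (hkey (bas A g) hg).symm ▸ h2⟩
  · obtain ⟨g, hg, hyg⟩ := A.2.exists_basicOpen_le ⟨y, hyV⟩ hy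
    refine ⟨g, hyg, T.image (rX f hg), ?_, fun x hx ↦ ?_⟩
    · intro x hx
      obtain ⟨z, hz, rfl⟩ := Finset.mem_image.mp hx
      exact map_rX_le _ (U := bas A g) hg
        (J.gen_le_cut V hTJ (hTgen z hz))
    · have := hx.2 (bas A g) le_rfl hg
      rw [rX_refl] at this
      refine (show _ ≤ gen f (Y.basicOpen g) _ (Y.basicOpen g) le_rfl from ?_) this
      rw [gen, Subring.closure_le]
      rintro _ (⟨b, rfl⟩ | ⟨z, hz, rfl⟩)
      · exact app_mem_gen _ _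
      · simpa [rX_refl] using rX_mem_gen (f := f) (le_refl (Y.basicOpen g))
          (Finset.mem_image_of_mem (rX f hg) hz)

variable [CompactSpace Y]

/-- **Extension of finite type subalgebras**: finitely many sections lie in a finite type one. -/
theorem exists_fg_le (U : Y.affineOpens) (s : Finset Γ(X, f ⁻¹ᵁ U.1))
    (hs : (s : Set Γ(X, f ⁻¹ᵁ U.1)) ⊆ J.S U) :
    ∃ J' ≤ J, (∀ A, J'.FGAt A) ∧ (s : Set Γ(X, f ⁻¹ᵁ U.1)) ⊆ J'.S U := by
  classical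
  have hstart : ∀ A : Y.affineOpens, A.1 ≤ (⊥ : Y.Opens) → J.FGAt A := fun A hA ↦
    fg_of_cover _ A fun y hy ↦ absurd (hA hy) id
  obtain ⟨J₀, hJ₀, -, hfg₀, hs₀⟩ := exists_step J ⊥ (by simp) hstart U s hs
  rw [bot_sup_eq] at hfg₀
  suffices ∀ S : Finset Y.affineOpens, ∃ J' ≤ J, (∀ A : Y.affineOpens,
      A.1 ≤ U.1 ⊔ S.sup (fun V => V.1) → J'.FGAt A) ∧
      (s : Set Γ(X, f ⁻¹ᵁ U.1)) ⊆ J'.S U by
    obtain ⟨S, hS, hSeq⟩ := isCompact_iff_finite_and_eq_biUnion_affineOpens.1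
      (show IsCompact ((⊤ : Y.Opens) : Set Y) from isCompact_univ)
    obtain ⟨J', hJ', hfg, hsJ⟩ := this hS.toFinset
    refine ⟨J', hJ', fun A => hfg A (le_top.trans (le_sup_of_le_right ?_)), hsJ⟩
    rw [hSeq]
    exact iSup₂_le fun V hV => Finset.le_sup (f := fun V : Y.affineOpens => V.1) (hS.mem_toFinset.2 hV)
  intro S
  induction S using Finset.induction with
  | empty => exact ⟨J₀, hJ₀, by simpa using hfg₀, hs₀⟩
  | @insert V S _ ih =>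
    obtain ⟨J₁, hJ₁, hfg, hsJ⟩ := ih
    have hW : IsCompact ((U.1 ⊔ S.sup (fun V => V.1) : Y.Opens) : Set Y) := by
      rw [Opens.coe_sup, Finset.sup_eq_iSup, Opens.coe_iSup]
      simp_rw [Opens.coe_iSup]
      exact U.2.isCompact.union (S.finite_toSet.isCompact_biUnion fun V _ => V.2.isCompact)
    obtain ⟨J', hJ', heq, hfg', -⟩ := exists_step J₁ _ hW hfg V ∅ (by simp)
    refine ⟨J', hJ'.trans hJ₁, fun A hA => hfg' A (hA.trans ?_), ?_⟩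
    · rw [Finset.sup_insert]
      exact le_of_eq (by rw [sup_comm V.1, sup_assoc])
    · rw [heq U le_sup_left]
      exact hsJ

end Sub

end Groth.Agent.H7Lim.Approx
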