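import Groth.Agent.H7Lim.Approx.Sub
import Groth.Agent.H7Lim.Approx.AffineSpecExists
import Mathlib.AlgebraicGeometry.AffineTransitionLimit

/-!
# The relative spectrum of a quasi-coherent subalgebra

For `f : X ⟶ Y` affine and `Y` quasi-compact quasi-separated, `X` is the limit of the spectra of
the finite type quasi-coherent subalgebras of `f_* 𝒪_X`.
-/

set_option autoImplicit false
set_option backward.isDefEq.respectTransparency false
set_option linter.style.haveILetI false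
set_option linter.unusedSectionVars false

universe u

open AlgebraicGeometry CategoryTheory CategoryTheory.Limits Opposite TopologicalSpace
open AlgebraicGeometry.Scheme

namespace Groth.Agent.H7Lim.Approx

variable {X Y : Scheme.{u}} {f : X ⟶ Y}

namespace Sub

variable (f) in
/-- The smallest subalgebra. -/
def bot : Sub f where
  S U := (f.app U.1).hom.range
  app_mem U s := ⟨s, rfl⟩
  res_mem U r := by rintro _ ⟨s, rfl⟩; exact ⟨_, (rX_app f _ s).symm⟩
  exists_mul U r := by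
    rintro _ ⟨s, rfl⟩
    have := U.2.isLocalization_basicOpen r
    obtain ⟨⟨b, _, n, rfl⟩, hb⟩ := IsLocalization.surj (Submonoid.powers r) s
    refine ⟨n, f.app U.1 b, ⟨b, rfl⟩, ?_⟩
    rw [rX_app, map_pow, rX_app, ← map_pow]
    exact (congrArg _ hb.symm).trans (map_mul (f.app (Y.basicOpen r)).hom _ _) |>.trans (by rw [map_pow]; rfl)

theorem bot_fgAt (U : Y.affineOpens) : (bot f).FGAt U :=
  ⟨∅, by simp, fun x ⟨s, hs⟩ ↦ hs ▸ app_mem_gen le_rfl s⟩

/-- Generated subalgebra of a union. -/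
def sup (J K : Sub f) : Sub f where
  S U := J.S U ⊔ K.S U
  app_mem U s := le_sup_left (a := J.S U) (J.app_mem U s)
  res_mem U r x hx := by
    have : (J.S U ⊔ K.S U).map (rX f (Y.basicOpen_le r)) ≤ J.S (bas U r) ⊔ K.S (bas U r) := by
      rw [Subring.map_sup]
      refine sup_le_sup ?_ ?_ <;>
        · rintro _ ⟨z, hz, rfl⟩
          first | exact J.res_mem U r z hz | exact K.res_mem U r z hz
    exact this ⟨x, hx, rfl⟩
  exists_mul U r x hx := by
    rw [← Subring.closure_eq (J.S (bas U r)), ← Subring.closure_eq (K.S (bas U r)),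
      ← Subring.closure_union] at hx
    refine Subring.closure_induction (p := fun x _ ↦ ∃ n : ℕ, ∃ a ∈ J.S U ⊔ K.S U,
      rX f (Y.basicOpen_le r) a = x * rX f (Y.basicOpen_le r) (f.app U.1 r ^ n)) ?_ ?_ ?_ ?_ ?_ ?_ hx
    · rintro x (hx | hx)
      · obtain ⟨n, a, ha, e⟩ := J.exists_mul U r x hx
        exact ⟨n, a, le_sup_left (a := J.S U) ha, e⟩
      · obtain ⟨n, a, ha, e⟩ := K.exists_mul U r x hx
        exact ⟨n, a, le_sup_right (a := J.S U) ha, e⟩
    · exact ⟨0, 0, zero_mem _, by simp⟩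
    · exact ⟨0, 1, one_mem _, by simp⟩
    · rintro x y _ _ ⟨n, a, ha, e⟩ ⟨m, b, hb, e'⟩
      refine ⟨n + m, a * f.app U.1 (r ^ m) + b * f.app U.1 (r ^ n),
        add_mem (mul_mem ha (le_sup_left (a := J.S U) (J.app_mem _ _)))
          (mul_mem hb (le_sup_left (a := J.S U) (J.app_mem _ _))), ?_⟩
      simp only [map_add, map_mul, map_pow, e, e', pow_add]
      ring
    · rintro x _ ⟨n, a, ha, e⟩
      exact ⟨n, -a, neg_mem ha, by simp [e]⟩
    · rintro x y _ _ ⟨n, a, ha, e⟩ ⟨m, b, hb, e'⟩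
      refine ⟨n + m, a * b, mul_mem ha hb, ?_⟩
      simp only [map_mul, e, e', map_pow, pow_add]
      ring

theorem le_sup_left' (J K : Sub f) : J ≤ J.sup K := fun U ↦ le_sup_left (a := J.S U)

theorem le_sup_right' (J K : Sub f) : K ≤ J.sup K := fun U ↦ le_sup_right (a := J.S U)

theorem sup_fgAt {J K : Sub f} {U : Y.affineOpens} (hJ : J.FGAt U) (hK : K.FGAt U) :
    (J.sup K).FGAt U := by
  classical
  obtain ⟨s, hs, hs'⟩ := hJ
  obtain ⟨t, ht, ht'⟩ := hK
  refine ⟨s ∪ t, ?_, sup_le (hs'.trans (gen_mono (by simp))) (ht'.trans (gen_mono (by simp)))⟩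
  intro x hx
  rcases Finset.mem_union.mp hx with hx | hx
  · exact le_sup_left (a := J.S U) (hs hx)
  · exact le_sup_right (a := J.S U) (ht hx)

variable (f) in
/-- The whole of `f_* 𝒪_X`. -/
def top [QuasiCompact f] [QuasiSeparated f] : Sub f where
  S _ := ⊤
  app_mem _ _ := Subring.mem_top _
  res_mem _ _ _ _ := Subring.mem_top _
  exists_mul U r x _ := by
    have hloc := isLocalization_basicOpen_of_qcqs (f.isCompact_preimage U.2.isCompact)
      (f.isQuasiSeparated_preimage U.2.isQuasiSeparated) (f.app U.1 r)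
    have e : X.basicOpen (f.app U.1 r) = f ⁻¹ᵁ Y.basicOpen r := (f.preimage_basicOpen r).symm
    obtain ⟨⟨a, _, n, rfl⟩, ha⟩ := IsLocalization.surj (Submonoid.powers (f.app U.1 r))
      (X.presheaf.map (eqToHom e).op x)
    refine ⟨n, a, Subring.mem_top _, ?_⟩
    have := congr(X.presheaf.map (eqToHom e.symm).op $(ha.symm))
    simp only [map_mul] at this
    refine (Eq.trans ?_ this).trans ?_
    · simp only [rX, RingHom.algebraMap_toAlgebra, ← CommRingCat.comp_apply, ← Functor.map_comp]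
      rfl
    · simp only [rX, RingHom.algebraMap_toAlgebra, ← CommRingCat.comp_apply, ← Functor.map_comp]
      congr 1
      simp [← Functor.map_comp, ← op_comp]

variable [QuasiCompact f] [QuasiSeparated f] (J : Sub f)

/-- The presheaf of rings on the affine site given by the subalgebra. -/
noncomputable def presheaf : Y.AffineZariskiSiteᵒᵖ ⥤ CommRingCat.{u} where
  obj U := CommRingCat.of (J.S ⟨U.unop.1, U.unop.2⟩)
  map {U V} i := CommRingCat.ofHom
    ((rX f (AffineZariskiSite.toOpens_mono i.unop.le)).restrict (J.S ⟨U.unop.1, U.unop.2⟩)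
      (J.S ⟨V.unop.1, V.unop.2⟩) fun _ hx ↦ J.map_rX_le _ hx)
  map_id U := CommRingCat.hom_ext (RingHom.ext fun x ↦ Subtype.ext (by exact rX_refl f _))
  map_comp i j := CommRingCat.hom_ext (RingHom.ext fun x ↦ Subtype.ext (by exact (rX_rX f _ _ _).symm))

/-- The structure map. -/
noncomputable def str : (AffineZariskiSite.toOpensFunctor Y).op ⋙ Y.presheaf ⟶ J.presheaf where
  app U := CommRingCat.ofHom
    ((f.app U.unop.1).hom.codRestrict (J.S ⟨U.unop.1, U.unop.2⟩) (J.app_mem ⟨U.unop.1, U.unop.2⟩))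
  naturality {U V} i := by
    ext s
    exact Subtype.ext (rX_app f _ s).symm

theorem coequifibered_str : J.str.Coequifibered := by
  refine AffineZariskiSite.coequifibered_iff_forall_isLocalizationAway.mpr fun U r ↦ ?_
  let U' : Y.affineOpens := ⟨U.1, U.2⟩
  letI : Algebra (J.S U') (J.S (bas U' r)) :=
    ((rX f (Y.basicOpen_le r)).restrict (J.S U') (J.S (bas U' r)) fun _ hx ↦ J.res_mem U' r _ hx).toAlgebra
  show IsLocalization.Away (⟨f.app U.1 r, J.app_mem U' r⟩ : J.S U') (J.S (bas U' r))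
  refine IsLocalization.Away.mk _ ?_ (fun y ↦ ?_) fun a b hab ↦ ?_
  · obtain ⟨v, hv⟩ := exists_inv f U' r 1
    refine IsUnit.of_mul_eq_one ⟨f.app _ v, J.app_mem (bas U' r) v⟩ (Subtype.ext ?_)
    rw [pow_one] at hv
    rw [mul_comm] at hv
    exact hv
  · obtain ⟨n, a, ha, e⟩ := J.exists_mul U' r y.1 y.2
    refine ⟨n, ⟨a, ha⟩, Subtype.ext ?_⟩
    show _ = rX f _ a
    rw [e, map_pow]
    rfl
  · obtain ⟨n, hn⟩ := exists_pow_mul_eq f U' r (congrArg Subtype.val hab)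
    exact ⟨n, Subtype.ext hn⟩

/-- `(P, p, a)` is a relative spectrum of the subalgebra `J`. -/
structure IsSpec {P : Scheme.{u}} (p : P ⟶ Y) (a : X ⟶ P) : Prop where
  isAffineHom : IsAffineHom p
  fac : a ≫ p = f
  injective : ∀ U : Y.affineOpens, Function.Injective
    (a.appLE (p ⁻¹ᵁ U.1) (f ⁻¹ᵁ U.1) (preimage_le p f fac _))
  range_eq : ∀ U : Y.affineOpens,
    (a.appLE (p ⁻¹ᵁ U.1) (f ⁻¹ᵁ U.1) (preimage_le p f fac _)).hom.range = J.S U

theorem exists_isSpec : ∃ (P : Scheme.{u}) (p : P ⟶ Y) (a : X ⟶ P), J.IsSpec p a := by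
  obtain ⟨P, p, hp, ε, hε, hεY, hεr⟩ := exists_affine_of_coequifibered J.coequifibered_str
  let φ : ∀ U : Y.affineOpens, Γ(P, p ⁻¹ᵁ U.1) ⟶ Γ(X, f ⁻¹ᵁ U.1) := fun U ↦
    ε U ≫ CommRingCat.ofHom (J.S U).subtype
  obtain ⟨a, ha, hφ⟩ := exists_hom_of_app p f φ (fun U ↦ by
      simp only [φ]; rw [reassoc_of% (hεY U)]; rfl)
    (fun U r ↦ by simp only [φ]; rw [reassoc_of% (hεr U r), Category.assoc]; rfl)
  refine ⟨P, p, a, hp, ha, fun U ↦ ?_, fun U ↦ ?_⟩
  · rw [hφ U]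
    haveI := hε U
    exact Subtype.val_injective.comp (ConcreteCategory.bijective_of_isIso (ε U)).1
  · rw [hφ U]
    haveI := hε U
    refine le_antisymm (fun _ ⟨z, hz⟩ ↦ hz ▸ (ε U z).2) fun x hx ↦ ?_
    obtain ⟨z, hz⟩ := (ConcreteCategory.bijective_of_isIso (ε U)).2 ⟨x, hx⟩
    exact ⟨z, congrArg Subtype.val hz⟩

variable {J} {P : Scheme.{u}} {p : P ⟶ Y} {a : X ⟶ P}

theorem IsSpec.hom_ext (h : J.IsSpec p a) {Q : Scheme.{u}} (q : Q ⟶ Y) [IsAffineHom q]
    {g g' : P ⟶ Q} (hg : g ≫ q = p) (hg' : g' ≫ q = p) (e : a ≫ g = a ≫ g') : g = g' := by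
  refine hom_ext_app q p hg hg' fun U ↦ ?_
  have := h.injective U
  ext z
  apply this
  rw [← CommRingCat.comp_apply, ← CommRingCat.comp_apply, Scheme.Hom.appLE_comp_appLE,
    Scheme.Hom.appLE_comp_appLE]
  simp only [e]

theorem IsSpec.exists_hom (h : J.IsSpec p a) {Q : Scheme.{u}} (q : Q ⟶ Y) [IsAffineHom q]
    (b : X ⟶ Q) (hb : b ≫ q = f)
    (hr : ∀ U : Y.affineOpens,
      (b.appLE (q ⁻¹ᵁ U.1) (f ⁻¹ᵁ U.1) (preimage_le q f hb _)).hom.range ≤ J.S U) :
    ∃ g : P ⟶ Q, g ≫ q = p ∧ a ≫ g = b := by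
  let α := fun U : Y.affineOpens ↦ a.appLE (p ⁻¹ᵁ U.1) (f ⁻¹ᵁ U.1) (preimage_le p f h.fac _)
  let β := fun U : Y.affineOpens ↦ b.appLE (q ⁻¹ᵁ U.1) (f ⁻¹ᵁ U.1) (preimage_le q f hb _)
  have hex : ∀ U z, ∃ w, α U w = β U z := fun U z ↦ by
    have := (h.range_eq U).ge (hr U ⟨z, rfl⟩)
    exact this
  choose w hw using hex
  let φ : ∀ U : Y.affineOpens, Γ(Q, q ⁻¹ᵁ U.1) ⟶ Γ(P, p ⁻¹ᵁ U.1) := fun U ↦ CommRingCat.ofHom
    { toFun := w U
      map_one' := h.injective U (by rw [hw]; exact (map_one (β U).hom).trans (map_one (α U).hom).symm)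
      map_mul' := fun x y ↦ h.injective U (by
        rw [hw]; refine Eq.trans ?_ (map_mul (α U).hom _ _).symm
        rw [hw, hw]; exact map_mul (β U).hom _ _)
      map_zero' := h.injective U (by rw [hw]; exact (map_zero (β U).hom).trans (map_zero (α U).hom).symm)
      map_add' := fun x y ↦ h.injective U (by
        rw [hw]; refine Eq.trans ?_ (map_add (α U).hom _ _).symm
        rw [hw, hw]; exact map_add (β U).hom _ _) }
  have hφ : ∀ U, φ U ≫ α U = β U := fun U ↦ by ext z; exact hw U z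
  have inj : ∀ U {R : CommRingCat.{u}} {φ₁ φ₂ : R ⟶ Γ(P, p ⁻¹ᵁ U.1)}, φ₁ ≫ α U = φ₂ ≫ α U → φ₁ = φ₂ :=
    fun U _ φ₁ φ₂ e ↦ by ext z; exact h.injective U congr($e z)
  obtain ⟨g, hg, hgφ⟩ := exists_hom_of_app q p φ (fun U ↦ inj U (by
      rw [Category.assoc, hφ, Scheme.Hom.app_eq_appLE, Scheme.Hom.app_eq_appLE,
        Scheme.Hom.appLE_comp_appLE, Scheme.Hom.appLE_comp_appLE]
      simp only [hb, h.fac])) (fun U r ↦ inj (bas U r) (by
      have e1 : ∀ V, φ V ≫ a.appLE (p ⁻¹ᵁ V.1) (f ⁻¹ᵁ V.1) (preimage_le p f h.fac _) = β V := hφ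
      simp only [α, Category.assoc]
      rw [e1 ⟨Y.basicOpen r, U.2.basicOpen r⟩, Scheme.Hom.map_appLE,
        ← Scheme.Hom.appLE_map a (preimage_le p f h.fac U.1) (homOfLE (f.preimage_mono (Y.basicOpen_le r))).op,
        reassoc_of% (e1 U)]
      simp only [β]
      rw [Scheme.Hom.appLE_map, Scheme.Hom.map_appLE]))
  refine ⟨g, hg, hom_ext_app q f (by rw [Category.assoc, hg, h.fac]) hb fun U ↦ ?_⟩
  rw [← Scheme.Hom.appLE_comp_appLE a g (q ⁻¹ᵁ U.1) (p ⁻¹ᵁ U.1) (f ⁻¹ᵁ U.1) (preimage_le q p hg _)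
    (preimage_le p f h.fac _), hgφ U]
  exact hφ U

theorem IsSpec.locallyOfFiniteType (h : J.IsSpec p a) (hJ : ∀ U, J.FGAt U) :
    LocallyOfFiniteType p := by
  haveI := h.isAffineHom
  rw [HasRingHomProperty.iff_exists_appLE (P := @LocallyOfFiniteType)
    (RingHom.finiteType_stableUnderComposition.stableUnderCompositionWithLocalizationAway
      RingHom.finiteType_holdsForLocalizationAway).1]
  intro x
  obtain ⟨U₀, hU, hxU, -⟩ := exists_isAffineOpen_mem_and_subset (Set.mem_univ (p x)) (U := (⊤ : Y.Opens))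
  let U : Y.affineOpens := ⟨U₀, hU⟩
  refine ⟨U, ⟨p ⁻¹ᵁ U₀, hU.preimage p⟩, hxU, le_rfl, ?_⟩
  classical
  obtain ⟨t, ht, ht'⟩ := hJ U
  let α := (a.appLE (p ⁻¹ᵁ U.1) (f ⁻¹ᵁ U.1) (preimage_le p f h.fac _)).hom
  choose σ hσ using fun z : t ↦ ((h.range_eq U).ge (ht z.2) : z.1 ∈ α.range)
  rw [← Scheme.Hom.app_eq_appLE]
  letI := (p.app U₀).hom.toAlgebra
  refine ⟨Finset.univ.image σ, eq_top_iff.mpr fun w _ ↦ ?_⟩
  have key : gen f U.1 (t : Set Γ(X, f ⁻¹ᵁ U.1)) U.1 le_rfl ≤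
      (Algebra.adjoin Γ(Y, U₀) ((Finset.univ.image σ : Finset _) : Set Γ(P, p ⁻¹ᵁ U₀))).toSubring.map α := by
    rw [gen, Subring.closure_le]
    rintro _ (⟨s, rfl⟩ | ⟨z, hz, rfl⟩)
    · refine ⟨p.app U₀ s, Subalgebra.algebraMap_mem _ s, ?_⟩
      simp only [α, U, Scheme.Hom.app_eq_appLE, ← CommRingCat.comp_apply, Scheme.Hom.appLE_comp_appLE, h.fac]
    · refine ⟨σ ⟨z, hz⟩, Algebra.subset_adjoin (Finset.mem_image_of_mem _ (Finset.mem_univ _)), ?_⟩
      rw [hσ, rX_refl]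
  obtain ⟨w', hw', hww'⟩ := key (ht' ((h.range_eq U).le ⟨w, rfl⟩))
  rwa [← h.injective U hww']

end Sub

end Groth.Agent.H7Lim.Approx
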